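import Groth.Agent.S1624

/-!
# The blow-up over an affine open with two generators of the centre
-/

set_option autoImplicit false
set_option linter.style.haveILetI false
universe u

open CategoryTheory CategoryTheory.Limits AlgebraicGeometry TopologicalSpace Opposite

namespace Groth.Agent.Lib.PointBlow96

open Groth.Agent.Lib.BlowUpExists
open Groth.Agent.S1624 (appLE_bijective appLE_fac exists_ov_eq_add)

variable {Y X : Scheme.{u}} {I : Y.IdealSheafData} {b : X ⟶ Y}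

/-- Over an affine open `W` where the centre has generators `g₁, g₂` the blow-up is covered by two
affine opens with affine intersection on which every function is a sum of extendable functions. -/
theorem exists_cover (hb : BlowUp.IsBlowUp b I) {W : Y.Opens} (hW : IsAffineOpen W)
    (g₁ g₂ : Γ(Y, W)) (hg : Ideal.span {g₁, g₂} = I.ideal ⟨W, hW⟩) :
    ∃ U V : X.Opens, IsAffineOpen U ∧ IsAffineOpen V ∧ IsAffineOpen (U ⊓ V) ∧ U ⊔ V = b ⁻¹ᵁ W ∧
      (∀ z : Γ(X, U ⊓ V), ∃ (x : Γ(X, U)) (y : Γ(X, V)),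
        X.presheaf.map (homOfLE inf_le_left).op x + X.presheaf.map (homOfLE inf_le_right).op y =
          z) ∧
      (∀ (e : U ≤ b ⁻¹ᵁ W) (B : CommRingCat.{u}) (φ : Γ(Y, W) ⟶ B),
        φ.hom g₁ ∈ nonZeroDivisors B →
          (I.ideal ⟨W, hW⟩).map φ.hom = Ideal.span {φ.hom g₁} →
            ∃ ψ : Γ(X, U) ⟶ B, b.appLE W U e ≫ ψ = φ) := by
  obtain ⟨h, hh, -⟩ := hb.2 (bl I) (blProj I) (localData I).Q_proj
  obtain ⟨k, hk⟩ := (localData I).exists_hom b hb.1
  have e₁ : k ≫ h = 𝟙 X := (hb.2 X b hb.1).unique (by rw [Category.assoc, hh, hk]) (by simp)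
  have e₂ : h ≫ k = 𝟙 (bl I) := (localData I).hom_ext (blProj I) (localData I).Q_proj
    (by rw [Category.assoc, hk, hh]) (by simp)
  haveI : IsIso h := ⟨k, e₂, e₁⟩
  have h₁ : g₁ ∈ I.ideal ⟨W, hW⟩ := hg ▸ Ideal.subset_span (Or.inl rfl)
  have h₂ : g₂ ∈ I.ideal ⟨W, hW⟩ := hg ▸ Ideal.subset_span (Or.inr rfl)
  let i : Idx I := ⟨⟨W, hW⟩, g₁, h₁⟩
  let j : Idx I := withGen i (b := g₂) h₂
  let φ := ovFst i (b := g₂) h₂
  let ψ := ovSnd i (b := g₂) h₂
  haveI := isOpenImmersion_ovFst i (b := g₂) h₂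
  haveI : ∀ l : Idx I, IsOpenImmersion (incl l) := fun l =>
    (localData I).glueData.ι_isOpenImmersion l
  let w : Spec (ov i (b := g₂) h₂) ⟶ X := Spec.map φ ≫ incl i ≫ h
  have hw : Spec.map ψ ≫ incl j ≫ h = w := by
    show _ = Spec.map φ ≫ incl i ≫ h
    rw [← Category.assoc, ← Category.assoc]
    exact congrArg (· ≫ h) (ov_glue i h₂)
  have hproj : ∀ l : Idx I, (incl l ≫ h) ≫ b = chartMap l := fun l =>
    (Category.assoc _ _ _).trans ((congrArg (incl l ≫ ·) hh).trans (incl_proj l))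
  let U := (incl i ≫ h).opensRange
  let V := (incl j ≫ h).opensRange
  have hUV : U ⊓ V = w.opensRange := by
    ext x
    constructor
    · rintro ⟨⟨z, rfl⟩, z', hz'⟩
      have hinj : Function.Injective h.base := h.isOpenEmbedding.injective
      have hz : incl i z ∈ Set.range (incl j) := ⟨z', hinj hz'⟩
      have h' := (fracPoint_mem i (b := g₂) h₂ z).mp ((mem_range_incl_iff i j z).mp hz)
      rw [basicOpen_eq_of_affine] at h'
      obtain ⟨q, rfl⟩ := (PrimeSpectrum.localization_away_comap_range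
        (ov i (b := g₂) h₂) (frac i (b := g₂) h₂)).ge h'
      exact ⟨q, rfl⟩
    · rintro ⟨q, rfl⟩
      refine ⟨⟨Spec.map φ q, rfl⟩, ⟨Spec.map ψ q, ?_⟩⟩
      exact congrArg (fun f => f.base q) hw
  have hU : IsAffineOpen U := isAffineOpen_opensRange _
  have hV : IsAffineOpen V := isAffineOpen_opensRange _
  refine ⟨U, V, hU, hV, hUV ▸ isAffineOpen_opensRange w, ?_, fun z => ?_, fun e B φ' hz hspan => ?_⟩
  · refine le_antisymm (sup_le ?_ ?_) fun x hx => ?_
    · rintro _ ⟨z, rfl⟩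
      show b ((incl i ≫ h) z) ∈ W
      rw [← Scheme.Hom.comp_apply, hproj i]
      exact top_le_chartMap i (Set.mem_univ z)
    · rintro _ ⟨z, rfl⟩
      show b ((incl j ≫ h) z) ∈ W
      rw [← Scheme.Hom.comp_apply, hproj j]
      exact top_le_chartMap j (Set.mem_univ z)
    · have hkx : h (k x) = x := congrArg (fun f => f.base x) e₁
      have hkp : blProj I (k x) = b x := congrArg (fun f => f.base x) hk
      obtain ⟨a, ha, hx'⟩ := exists_mem_range_incl (k x) (U := ⟨W, hW⟩) (by rw [hkp]; exact hx) hg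
      obtain ⟨q, hq⟩ := hx'
      rcases ha with rfl | rfl
      · exact Or.inl ⟨q, (congrArg h.base hq).trans hkx⟩
      · exact Or.inr ⟨q, (congrArg h.base hq).trans hkx⟩
  · have e : (⊤ : (Spec (ov i (b := g₂) h₂)).Opens) ≤ w ⁻¹ᵁ (U ⊓ V) := fun q _ => by
      show w q ∈ U ⊓ V
      rw [hUV]
      exact ⟨q, rfl⟩
    have eU : (⊤ : (chart i).Opens) ≤ (incl i ≫ h) ⁻¹ᵁ U := fun q _ => ⟨q, rfl⟩
    have eV : (⊤ : (chart j).Opens) ≤ (incl j ≫ h) ⁻¹ᵁ V := fun q _ => ⟨q, rfl⟩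
    obtain ⟨p, q, hpq⟩ := exists_ov_eq_add i (b := g₂) h₂ hg
      ((Scheme.ΓSpecIso (ov i (b := g₂) h₂)).hom (w.appLE (U ⊓ V) ⊤ e z))
    obtain ⟨x, hx⟩ := (appLE_bijective (incl i ≫ h) rfl eU).2 ((Scheme.ΓSpecIso _).inv p)
    obtain ⟨y, hy⟩ := (appLE_bijective (incl j ≫ h) rfl eV).2 ((Scheme.ΓSpecIso _).inv q)
    refine ⟨x, y, (appLE_bijective w hUV e).1 ?_⟩
    rw [map_add, appLE_fac φ _ w rfl inf_le_left eU e x p hx,
      appLE_fac ψ _ w hw inf_le_right eV e y q hy, ← map_add, hpq, Iso.hom_inv_id_apply]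
  · obtain ⟨ψ', hψ'⟩ := exists_chartRing_hom i φ' hz fun x hx => hspan ▸ Ideal.mem_map_of_mem _ hx
    have eU : (⊤ : (chart i).Opens) ≤ (incl i ≫ h) ⁻¹ᵁ U := fun q _ => ⟨q, rfl⟩
    refine ⟨(incl i ≫ h).appLE U ⊤ eU ≫ (Scheme.ΓSpecIso (chartRing i)).hom ≫ ψ', ?_⟩
    have key : ∀ (g : chart i ⟶ Y) (hg' : g = chartMap i) (e' : ⊤ ≤ g ⁻¹ᵁ W),
        g.appLE W ⊤ e' = chartRingMap i ≫ (Scheme.ΓSpecIso _).inv := by
      rintro g rfl e'
      exact appLE_chartMap i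
    rw [← Category.assoc, Scheme.Hom.appLE_comp_appLE, key _ (hproj i), Category.assoc,
      Iso.inv_hom_id_assoc, hψ']

end Groth.Agent.Lib.PointBlow96
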