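import Groth.Agent.Lib.PointBlow96.Kernel
import Groth.Agent.Lib.IntTheory.Additive
import Groth.Agent.Lib.IntTheory.Push
import Groth.Agent.Lib.IntTheory.Curves
import Groth.Agent.Lib.SurfInt.Push
import Groth.Agent.Lib.SurfInt.Effective
import Groth.Agent.Lib.Curves.GlobalSections
import Groth.Agent.Lib.Snapper.Finite
import Groth.Agent.H25.Node.Basic

/-!
# Euler characteristics of sheaves at a point and of `σ_*(O/E^b)`
-/

set_option autoImplicit false
set_option linter.style.haveILetI false
set_option linter.unusedSectionVars false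
universe u

open CategoryTheory CategoryTheory.Limits AlgebraicGeometry TopologicalSpace Opposite

namespace Groth.Agent.Lib.PointBlow96

open Groth.Agent.Lib Groth.Agent.Lib.Modules Groth.Agent.Lib.Snapper

theorem length_quot_maximalIdeal (A : Type u) [CommRing A] [IsLocalRing A] :
    Module.length A (A ⧸ IsLocalRing.maximalIdeal A) = 1 := by
  haveI : IsSimpleModule A (A ⧸ IsLocalRing.maximalIdeal A) :=
    isSimpleModule_iff_isCoatom.2 (IsLocalRing.maximalIdeal.isMaximal A).1
  exact Module.length_eq_one _ _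

theorem length_quot_sq (A : Type u) [CommRing A] [IsRegularLocalRing A] (hA : ringKrullDim A = 2) :
    Module.length A (A ⧸ IsLocalRing.maximalIdeal A ^ 2) = 3 := by
  open IsLocalRing in
  have hex := Module.length_eq_add_of_exact (maximalIdeal A).cotangentToQuotientSquare
    (Ideal.Quotient.factorₐ A (Ideal.pow_le_self two_ne_zero :
      maximalIdeal A ^ 2 ≤ maximalIdeal A)).toLinearMap
    (Ideal.cotangentToQuotientSquare_injective _)
    (Ideal.Quotient.factor_surjective (Ideal.pow_le_self two_ne_zero :
      maximalIdeal A ^ 2 ≤ maximalIdeal A)) (by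
      rw [LinearMap.exact_iff, Ideal.range_cotangentToQuotientSquare]
      ext z
      obtain ⟨z, rfl⟩ := Ideal.Quotient.mk_surjective z
      rw [Submodule.restrictScalars_mem, ← Ideal.mem_comap, Ideal.comap_cotangentIdeal,
        LinearMap.mem_ker]
      exact Ideal.Quotient.eq_zero_iff_mem)
  rw [length_quot_maximalIdeal,
    Module.length_eq_of_surjective (R := IsLocalRing.ResidueField A)
      (M := IsLocalRing.CotangentSpace A) IsLocalRing.residue_surjective, Module.length_eq_finrank,
    ← IsLocalRing.spanFinrank_maximalIdeal_eq_finrank_cotangentSpace, spanFinrank_eq_two hA] at hex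
  rw [hex]
  norm_num

variable {k : Type u} [Field k] {Y X : Scheme.{u}} [Y.Over (Spec (CommRingCat.of k))]
  [IsProper (Y ↘ Spec (CommRingCat.of k))] {x : Y} (hx : IsClosed ({x} : Set Y))

theorem ptIdeal_eq : IntMult.ptIdeal x = ptI hx := by
  rw [IntMult.ptIdeal]
  congr 1
  exact Closeds.ext (show closure ({x} : Set Y) = {x} from hx.closure_eq)

include hx in
theorem dim_closure_point {K : Type u} [Field K] (f : Y ⟶ Spec (CommRingCat.of K))
    [LocallyOfFiniteType f] : topologicalKrullDim (closure {x} : Set Y) = 0 := by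
  rw [VarDim.Basic.topologicalKrullDim_isGenericPoint f
    (show IsGenericPoint x (closure ({x} : Set Y)) from rfl),
    (VarDim.Basic.pdim_eq_zero_iff _ x).2 hx]
  rfl

include hx in
/-- The Euler characteristic of a coherent module supported at a closed point. -/
theorem eulerCharLE_of_support {d : ℕ} (hdY : topologicalKrullDim Y ≤ d) (F : Y.Modules)
    (hF : Coh.IsCoh F) (hsupp : CohB1.support F ⊆ {x}) :
    FGA.eulerCharLE k Y F d =
      ((Module.length (Y.presheaf.stalk x) (F.presheaf.stalk x)).toNat : ℤ) *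
        FGA.eulerCharLE k Y (Cyc.closureStructureSheaf x) d := by
  classical
  haveI := Curves.GlobalSections.isNoetherian_of_proper k Y
  have hfin := Finite.cohFinite k Y
  let T : Closeds Y := ⟨{x}, hx⟩
  have hT : topologicalKrullDim (T : Set Y) ≤ (0 : ℕ) := by
    change topologicalKrullDim ({x} : Set Y) ≤ _
    have h0 := dim_closure_point hx (Y ↘ Spec (CommRingCat.of k))
    rw [hx.closure_eq] at h0
    rw [h0]; rfl
  have h := IntTheory.Additive.eq_sum
    (IntTheory.Additive.isAdd_sym hfin hdY (l := []) (by simp))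
    (IntTheory.Additive.vanishBelow_sym hfin hdY (l := []) (by simp) (n := 0) rfl) hF (T := T)
    hsupp hT
  refine h.trans ?_
  rw [Finset.sum_eq_single x]
  · rfl
  · intro y hy hyx
    exact absurd ((Set.Finite.mem_toFinset _).1 hy).1 hyx
  · intro hxS
    exact absurd ((Set.Finite.mem_toFinset _).2 (show x ∈ IntTheory.Additive.topPts ({x} : Set Y) 0 from ⟨rfl, dim_closure_point hx (Y ↘ Spec (CommRingCat.of k))⟩)) hxS

include hx in
/-- A rational point has Euler characteristic one. -/
theorem eulerCharLE_point [IsAlgClosed k] (d : ℕ) :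
    FGA.eulerCharLE k Y (Cyc.closureStructureSheaf x) d = 1 := by
  haveI := Curves.GlobalSections.isNoetherian_of_proper k Y
  let Z := (IntMult.ptIdeal x).subscheme
  let i : Z ⟶ Y := (IntMult.ptIdeal x).subschemeι
  have hfin : ((IntMult.ptIdeal x).support : Set Y).Finite := by
    rw [show ((IntMult.ptIdeal x).support : Set Y) = closure {x} from rfl, hx.closure_eq]
    exact Set.finite_singleton x
  rw [show Cyc.closureStructureSheaf x = _root_.ClSub.quotMod (IntMult.ptIdeal x) from rfl,
    SurfInt.Push.eulerCharLE_quotMod_of_finite (IntMult.ptIdeal x) hfin]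
  letI : Z.Over (Spec (CommRingCat.of k)) := ⟨i ≫ (Y ↘ Spec (CommRingCat.of k))⟩
  haveI : IsProper (Z ↘ Spec (CommRingCat.of k)) :=
    inferInstanceAs (IsProper (i ≫ (Y ↘ Spec (CommRingCat.of k))))
  haveI : IsIntegral Z := IntTheory.Curves.isIntegral_ptIdeal x
  haveI := TensorMod.QCohInv.isQCoh_structureModule Z
  have h := SurfInt.Push.finrank_push (k := k) i rfl (Coh.structureModule Z) 0
  rw [Curves.GlobalSections.finrank_h0_structure k Z] at h
  exact_mod_cast h

variable {σ : X ⟶ Y} [X.Over (Spec (CommRingCat.of k))]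
  [IsRegularLocalRing (Y.presheaf.stalk x)]
  (hd : ringKrullDim (Y.presheaf.stalk x) = 2) (hσ : BlowUp.IsBlowUp σ (ptI hx))
  (hσk : σ ≫ (Y ↘ Spec (CommRingCat.of k)) = X ↘ Spec (CommRingCat.of k))
  [IsProper (X ↘ Spec (CommRingCat.of k))]

include hd hσ hσk

/-- The length of `σ_*(O/E^b)` at the centre. -/
theorem length_push_quot (hO : ∀ W : Y.Opens, Function.Surjective (σ.app W)) (b : ℕ)
    (hb : b = 1 ∨ b = 2) :
    Module.length (Y.presheaf.stalk x) (((Coh.push σ).obj
      (_root_.ClSub.quotMod (BlowUp.exceptional σ (ptI hx) ^ b))).presheaf.stalk x) =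
    Module.length (Y.presheaf.stalk x)
      (Y.presheaf.stalk x ⧸ IsLocalRing.maximalIdeal (Y.presheaf.stalk x) ^ b) := by
  haveI := Curves.GlobalSections.isNoetherian_of_proper k Y
  let L := StalkModule.stalkMapₗ (nu σ (BlowUp.exceptional σ (ptI hx) ^ b)) x ∘ₗ
    (SurfInt.Stalk.oStalk x).symm.toLinearMap
  have hsurj : Function.Surjective L :=
    (nu_stalk_surjective hx hd hσ hO b x).comp (SurfInt.Stalk.oStalk x).symm.surjective
  have hker : LinearMap.ker L = IsLocalRing.maximalIdeal (Y.presheaf.stalk x) ^ b := by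
    ext a
    obtain ⟨U, hxU, f, rfl⟩ := TopCat.Presheaf.exists_germ_eq Y.presheaf a
    rw [LinearMap.mem_ker, ← nu_germ_eq_zero_iff hx hd hσ b hb hxU f]
    rw [show L (Y.presheaf.germ U x hxU f) = StalkModule.stalkMapₗ _ x
        ((Coh.structureModule Y).presheaf.germ U x hxU f) from
      congrArg _ ((LinearEquiv.symm_apply_eq _).2 (SurfInt.Stalk.oStalk_germ hxU f).symm)]
  rw [← hker]
  exact (L.quotKerEquivOfSurjective hsurj).length_eq.symm

/-- `σ_*(O/E^b)` is coherent with support at the centre. -/
theorem push_quot_coh (b : ℕ) :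
    Coh.IsCoh ((Coh.push σ).obj (_root_.ClSub.quotMod (BlowUp.exceptional σ (ptI hx) ^ b))) ∧
      (b ≠ 0 → CohB1.support ((Coh.push σ).obj
        (_root_.ClSub.quotMod (BlowUp.exceptional σ (ptI hx) ^ b))) ⊆ {x}) := by
  haveI := Curves.GlobalSections.isNoetherian_of_proper k Y
  haveI := Curves.GlobalSections.isNoetherian_of_proper k X
  haveI := IntTheory.Push.isProper σ hσk
  refine ⟨Cyc.PP.Push.isCoh_push σ (SurfInt.Effective.isCoh_quotMod _), fun hb => ?_⟩
  refine IntTheory.Push.support_push_subset σ hx fun w hw => ?_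
  rw [ClSub.Quot.support_quotMod, Scheme.IdealSheafData.support_pow _ _ hb,
    Scheme.IdealSheafData.support_comap] at hw
  change σ w ∈ ((ptI hx).support : Set Y) at hw
  rwa [Scheme.IdealSheafData.coe_support_vanishingIdeal] at hw

end Groth.Agent.Lib.PointBlow96
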