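import Groth.Agent.Lib.PointBlow96.Stein
import Groth.Agent.Lib.PointBlow96.Length
import Groth.Agent.Lib.Nakai.NumProper
import Groth.Agent.Lib.SurfInt.Hodge
import Groth.Agent.Lib.SurfInt.Mul
import Groth.Agent.Lib.SurfInt.PushIso
import Groth.Agent.Lib.Cyc.DimFun
import Groth.Agent.Lib.Ample.GenLocus

/-!
# Euler characteristics on the blow-up of a rational point of a regular surface
-/

set_option autoImplicit false
set_option linter.style.haveILetI false
set_option linter.unusedSectionVars false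
universe u

open CategoryTheory CategoryTheory.Limits AlgebraicGeometry TopologicalSpace Opposite

namespace Groth.Agent.Lib.PointBlow96

open Groth.Agent.Lib Groth.Agent.Lib.Modules Groth.Agent.Lib.Snapper
open Groth.Agent.Lib.Snapper.Vanish (sym sym_cons sym_of_iso)
open Groth.Agent.Lib.TensorMod.Basic (tmap comm tensorIso leftUnit rightUnit)
open Groth.Agent.Lib.TensorMod.Pullback (pb)

variable (k : Type u) [Field k] [IsAlgClosed k] {Y X : Scheme.{u}}
  [Y.Over (Spec (CommRingCat.of k))] [IsProper (Y ↘ Spec (CommRingCat.of k))] [IsIntegral Y]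
  (hdim : topologicalKrullDim Y = 2) (hreg : ∀ y : Y, IsRegularLocalRing (Y.presheaf.stalk y))
  {x : Y} (hx : IsClosed ({x} : Set Y)) {σ : X ⟶ Y} [X.Over (Spec (CommRingCat.of k))]
  (hσk : σ ≫ (Y ↘ Spec (CommRingCat.of k)) = X ↘ Spec (CommRingCat.of k))
  (hσ : BlowUp.IsBlowUp σ (ptI hx))

local notation "EE" => BlowUp.exceptional σ (ptI hx)

variable {k} in
include hdim hx in
theorem stalk_dim (f : Y ⟶ Spec (CommRingCat.of k)) [LocallyOfFiniteType f] :
    ringKrullDim (Y.presheaf.stalk x) = 2 := by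
  rw [Cyc.DimFun.ringKrullDim_stalk (Cyc.FieldDim.isDimFun_fdelta f) x, VarDim.Basic.fdelta_eq,
    VarDim.Basic.fdelta_eq, (VarDim.Basic.pdim_eq_zero_iff f x).2 hx]
  have h := VarDim.Basic.topologicalKrullDim_irreducibleSpace f
  rw [hdim] at h
  rw [show VarDim.Basic.pdim f (genericPoint Y) = 2 from by exact_mod_cast h.symm]
  rfl

include hσk hσ in
theorem isProper_X : IsProper (X ↘ Spec (CommRingCat.of k)) := by
  haveI := Curves.GlobalSections.isNoetherian_of_proper k Y
  haveI := isProper_blowUp hx hσ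
  rw [← hσk]
  infer_instance

include hdim hσk hσ

theorem isIntegral_X : IsIntegral X := (birational hx (stalk_dim hdim hx (Y ↘ Spec (CommRingCat.of k))) hσ).1

theorem dim_X : topologicalKrullDim X = 2 := by
  haveI := isProper_X k hx hσk hσ
  rw [dim_eq hx (Y ↘ Spec (CommRingCat.of k)) (X ↘ Spec (CommRingCat.of k)) hσk
    (stalk_dim hdim hx (Y ↘ Spec (CommRingCat.of k))) hσ, hdim]

include hreg

theorem app_bijective (U : Y.Opens) : Function.Bijective (σ.app U) := by
  haveI := Curves.GlobalSections.isNoetherian_of_proper k Y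
  haveI := isIso_app hx hreg (stalk_dim hdim hx (Y ↘ Spec (CommRingCat.of k))) hσ U
  exact ConcreteCategory.bijective_of_isIso (σ.app U)

theorem isIso_unit : IsIso (_root_.ClSub.unitToPush σ) := by
  rw [Scheme.Modules.Hom.isIso_iff_isIso_app]
  intro U
  rw [ConcreteCategory.isIso_iff_bijective]
  exact app_bijective k hdim hreg hx hσk hσ U

/-- A trivial pullback has the same Euler characteristic. -/
theorem eulerCharLE_pullback {L : Y.Modules} (hL : PicF.IsInvertible L) (d : ℕ) :
    FGA.eulerCharLE k X ((pb σ).obj L) d = FGA.eulerCharLE k Y L d := by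
  haveI := Curves.GlobalSections.isNoetherian_of_proper k Y
  haveI := hreg x
  have hd := stalk_dim hdim hx (Y ↘ Spec (CommRingCat.of k))
  haveI := isIso_unit k hdim hreg hx hσk hσ
  let eO : Coh.structureModule Y ≅ (Coh.push σ).obj (Coh.structureModule X) :=
    asIso (_root_.ClSub.unitToPush σ)
  have hE := Modules.DualBasis.hasDBases_of_isFinLocFree
    (TensorMod.LocFree.of_rank (TensorMod.LocFree.of_isInvertible hL))
  let e : (Coh.push σ).obj ((pb σ).obj L) ≅ L :=
    (Coh.push σ).mapIso (rightUnit ((pb σ).obj L)).symm ≪≫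
      ((Modules.ProjFormula.projIso σ hE).app (Coh.structureModule X)).symm ≪≫
      tensorIso (Iso.refl L) eO.symm ≪≫ rightUnit L
  haveI : ((pb σ).obj L).IsQuasicoherent :=
    TensorMod.QCohInv.isQCoh_of_isInvertible (PicLoc.isInvertible_pullback σ hL)
  let B : Set (Opens Y) := {W | Good (ptI hx) W ∧ ∃ e : Γ(L, W), TensorMod.Gen.IsGen L W e}
  have hB : Opens.IsBasis B := by
    rw [Opens.isBasis_iff_nbhd]
    intro O y hy
    obtain ⟨V, e, hyV, he⟩ := TensorMod.Gen.isInvertible_iff.1 hL y
    obtain ⟨W, hW, hyW, hle⟩ := exists_good hx hd y (O := O ⊓ V) ⟨hy, hyV⟩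
    exact ⟨W, ⟨hW, _, he.res (hle.trans inf_le_right)⟩, hyW, hle.trans inf_le_left⟩
  rw [← Nakai.NumProper.euler_push σ hσk hB ((pb σ).obj L) ?_ d, Chi.eulerCharLE_of_iso e]
  rintro W ⟨hW, eW, he⟩ q
  exact subsingleton_HU hσ hW _ (TensorMod.Pullback.unitSec σ L eW)
    (fun V _ h => (Ample.GenLocus.isGen_unitSec σ he V h).2) q

/-- `χ(O_X) = χ(O_Y)`. -/
theorem eulerCharLE_structure (d : ℕ) :
    FGA.eulerCharLE k X (Coh.structureModule X) d = FGA.eulerCharLE k Y (Coh.structureModule Y) d := by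
  rw [← eulerCharLE_pullback k hdim hreg hx hσk hσ (PicLoc.isInvertible_structureModule Y) d]
  exact Chi.eulerCharLE_of_iso (PicLoc.pullbackStructureIso σ).symm d

/-- Euler characteristic of `O/E` and `O/E²`. -/
theorem eulerCharLE_quot (b : ℕ) (hb : b = 1 ∨ b = 2) :
    FGA.eulerCharLE k X (_root_.ClSub.quotMod (EE ^ b)) 2 = if b = 1 then 1 else 3 := by
  haveI := Curves.GlobalSections.isNoetherian_of_proper k Y
  haveI := isProper_X k hx hσk hσ
  haveI := Curves.GlobalSections.isNoetherian_of_proper k X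
  haveI := hreg x
  have hd := stalk_dim hdim hx (Y ↘ Spec (CommRingCat.of k))
  haveI : (_root_.ClSub.quotMod (EE ^ b)).IsQuasicoherent :=
    (SurfInt.Effective.isCoh_quotMod (EE ^ b)).1
  rw [← Nakai.NumProper.euler_push σ hσk (isBasis_good hx hd) (_root_.ClSub.quotMod (EE ^ b)) ?_ 2]
  swap
  · intro W hW q
    refine subsingleton_HU hσ hW _
      ((_root_.ClSub.toSubscheme (EE ^ b)).app (σ ⁻¹ᵁ W) (1 : Γ(X, σ ⁻¹ᵁ W))) (fun V hV h z => ?_) q
    obtain ⟨a, ha⟩ := ClSub.Sections.toSubscheme_app_surjective (EE ^ b) ⟨V, hV⟩ z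
    refine ⟨a, ?_⟩
    have h1 := congr($((_root_.ClSub.toSubscheme (EE ^ b)).mapPresheaf.naturality (homOfLE h).op)
      (1 : Γ(X, σ ⁻¹ᵁ W)))
    have h2 := Scheme.Modules.Hom.app_smul (_root_.ClSub.toSubscheme (EE ^ b)) (U := V)
      (show Γ(X, V) from a) ((Coh.structureModule X).presheaf.map (homOfLE h).op (1 : Γ(X, σ ⁻¹ᵁ W)))
    refine (congrArg (fun t : Γ(_root_.ClSub.quotMod (EE ^ b), V) => (show Γ(X, V) from a) • t) h1.symm).trans ?_
    refine h2.symm.trans ((congrArg _ ?_).trans ha)
    change (show Γ(X, V) from a) * X.presheaf.map (homOfLE h).op 1 = a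
    rw [map_one, mul_one]
  have hO : ∀ W : Y.Opens, Function.Surjective (σ.app W) := fun W =>
    (app_bijective k hdim hreg hx hσk hσ W).2
  obtain ⟨hcoh, hsupp⟩ := push_quot_coh (k := k) hx hd hσ hσk b
  rw [eulerCharLE_of_support hx hdim.le _ hcoh (hsupp (by omega)),
    eulerCharLE_point hx, length_push_quot (k := k) hx hd hσ hσk hO b hb, mul_one]
  rcases hb with rfl | rfl
  · rw [pow_one, length_quot_maximalIdeal]; rfl
  · rw [length_quot_sq _ hd]; rfl

/-- The symbol of a pullback kills `O/E^b`. -/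
theorem sym_pullback_quot {L : Y.Modules} (hL : PicF.IsInvertible L) (b : ℕ) (hb : b ≠ 0) :
    sym k X 2 [(pb σ).obj L] (_root_.ClSub.quotMod (EE ^ b)) = 0 := by
  haveI := Curves.GlobalSections.isNoetherian_of_proper k Y
  haveI := isProper_X k hx hσk hσ
  haveI := Curves.GlobalSections.isNoetherian_of_proper k X
  haveI := hreg x
  haveI := isIntegral_X k hdim hx hσk hσ
  have hd := stalk_dim hdim hx (Y ↘ Spec (CommRingCat.of k))
  obtain ⟨hX, hgen, -, -⟩ := birational hx hd hσ
  have hl : ∀ M ∈ [L], PicF.IsInvertible M := fun M hM => List.mem_singleton.1 hM ▸ hL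
  have hsym := IntTheory.Push.sym_push σ hσk hdim.le (dim_X k hdim hx hσk hσ).le [L] hl
    (_root_.ClSub.quotMod (EE ^ b)) (SurfInt.Effective.isCoh_quotMod _) (by
      have hT := ((EE ^ b).support).isClosed
      rw [ClSub.Quot.support_quotMod]
      refine (VarDim.Basic.topologicalKrullDim_le_iff (X ↘ Spec (CommRingCat.of k))
        hT.isLocallyClosed _).2 fun w hw => ?_
      have hg : VarDim.Basic.pdim (X ↘ Spec (CommRingCat.of k)) (genericPoint X) = 2 := by
        have h := VarDim.Basic.topologicalKrullDim_irreducibleSpace (X ↘ Spec (CommRingCat.of k))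
        rw [dim_X k hdim hx hσk hσ] at h
        exact_mod_cast h.symm
      have hwne : genericPoint X ≠ w := by
        rintro rfl
        rw [Scheme.IdealSheafData.support_pow _ _ hb, Scheme.IdealSheafData.support_comap] at hw
        change σ (genericPoint X) ∈ ((ptI hx).support : Set Y) at hw
        rw [Scheme.IdealSheafData.coe_support_vanishingIdeal, hgen] at hw
        exact ne_genericPoint hd hw
      have h1 := VarDim.Basic.pdim_lt (X ↘ Spec (CommRingCat.of k))
        ((genericPoint_spec X).specializes (Set.mem_univ w)) hwne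
      have h2 : VarDim.Basic.pdim (X ↘ Spec (CommRingCat.of k)) w ≤ 1 := by omega
      rw [List.length_singleton]
      exact_mod_cast h2)
  rw [List.map_cons, List.map_nil] at hsym
  rw [hsym, sym_cons]
  obtain ⟨hcoh, hsupp⟩ := push_quot_coh (k := k) hx hd hσ hσk b
  rw [IntTheory.Additive.twist_eq (φ := sym k Y 2 []) (n := 0)
    (IntTheory.Additive.isAdd_sym (Finite.cohFinite k Y) hdim.le (by simp))
    (IntTheory.Additive.vanishBelow_sym (Finite.cohFinite k Y) hdim.le (by simp) rfl) hL hcoh, sub_self]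
  refine (Devissage.Dim.dim_mono (hsupp hb)).trans ?_
  rw [← hx.closure_eq, dim_closure_point hx (Y ↘ Spec (CommRingCat.of k))]
  rfl

theorem isEffCartier_E : BlowUp.IsEffCartierIdeal EE := hσ.1

/-- Intersection numbers of pullbacks. -/
theorem intNum_pullback_pullback {L M : Y.Modules} (hL : PicF.IsInvertible L)
    (hM : PicF.IsInvertible M) :
    FGA.intNum k X 2 ![(pb σ).obj L, (pb σ).obj M] (Coh.structureModule X) =
      FGA.intNum k Y 2 ![L, M] (Coh.structureModule Y) := by
  haveI := Curves.GlobalSections.isNoetherian_of_proper k Y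
  haveI := isProper_X k hx hσk hσ
  haveI := Curves.GlobalSections.isNoetherian_of_proper k X
  haveI := isIso_unit k hdim hreg hx hσk hσ
  have hl : ∀ N ∈ [L, M], PicF.IsInvertible N := by
    intro N hN
    rcases List.mem_pair.1 hN with rfl | rfl
    · exact hL
    · exact hM
  have hX2 := dim_X k hdim hx hσk hσ
  have h := IntTheory.Push.sym_push σ hσk hdim.le hX2.le [L, M] hl (Coh.structureModule X)
    (Twist.isCoh_structureModule X)
    ((topologicalKrullDim_subspace_le _ _).trans (by rw [hX2]; rfl))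
  simp only [List.map_cons, List.map_nil] at h
  rw [IntNum.intNum_pair, IntNum.intNum_pair, h]
  exact sym_of_iso _ (asIso (_root_.ClSub.unitToPush σ)).symm

theorem isAdd_pullback {L : Y.Modules} (hL : PicF.IsInvertible L) :
    IntTheory.Additive.IsAdd (sym k X 2 [(pb σ).obj L]) := by
  haveI := isProper_X k hx hσk hσ
  haveI := Curves.GlobalSections.isNoetherian_of_proper k X
  exact IntTheory.Additive.isAdd_sym (Finite.cohFinite k X) (dim_X k hdim hx hσk hσ).le
    fun M hM => List.mem_singleton.1 hM ▸ PicLoc.isInvertible_pullback σ hL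

/-- The symbol of a pullback does not see `E^b`. -/
theorem sym_pullback_ideal {L : Y.Modules} (hL : PicF.IsInvertible L) (b : ℕ) (hb : b ≠ 0) :
    sym k X 2 [(pb σ).obj L] (_root_.ClSub.idealMod (EE ^ b)) =
      sym k X 2 [(pb σ).obj L] (Coh.structureModule X) := by
  haveI := isProper_X k hx hσk hσ
  haveI := Curves.GlobalSections.isNoetherian_of_proper k X
  have h := (isAdd_pullback k hdim hreg hx hσk hσ hL).add (ClSub.Quot.idealSeq_shortExact (EE ^ b))
    (Ample.GG.isCoh_of_isInvertible (SurfInt.Effective.isInvertible_idealMod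
      (Ideal.EffCartier.isEffCartier_pow hσ.1 b))) (Twist.isCoh_structureModule X)
    (SurfInt.Effective.isCoh_quotMod _)
  change sym k X 2 _ (Coh.structureModule X) = sym k X 2 _ (_root_.ClSub.idealMod (EE ^ b)) +
    sym k X 2 _ (_root_.ClSub.quotMod (EE ^ b)) at h
  rw [sym_pullback_quot k hdim hreg hx hσk hσ hL b hb, add_zero] at h
  exact h.symm

/-- `(σ^*L · E) = 0`. -/
theorem intNum_pullback_exceptional {L : Y.Modules} (hL : PicF.IsInvertible L) :
    FGA.intNum k X 2 ![(pb σ).obj L, _root_.ClSub.idealMod EE] (Coh.structureModule X) = 0 := by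
  haveI := isProper_X k hx hσk hσ
  haveI := Curves.GlobalSections.isNoetherian_of_proper k X
  have h := sym_pullback_ideal k hdim hreg hx hσk hσ hL 1 one_ne_zero
  rw [pow_one] at h
  rw [IntNum.intNum_pair_comm, IntNum.intNum_pair, sym_cons,
    sym_of_iso [(pb σ).obj L] (rightUnit (_root_.ClSub.idealMod EE)), h, sub_self]

/-- `χ(E^b) = χ(O) − χ(O/E^b)`. -/
theorem eulerCharLE_ideal (b : ℕ) :
    FGA.eulerCharLE k X (_root_.ClSub.idealMod (EE ^ b)) 2 =
      FGA.eulerCharLE k X (Coh.structureModule X) 2 -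
        FGA.eulerCharLE k X (_root_.ClSub.quotMod (EE ^ b)) 2 := by
  haveI := isProper_X k hx hσk hσ
  haveI := Curves.GlobalSections.isNoetherian_of_proper k X
  have h := Chi.eulerCharLE_add (Finite.cohFinite k X) (dim_X k hdim hx hσk hσ).le
    (ClSub.Quot.idealSeq_shortExact (EE ^ b))
    (Ample.GG.isCoh_of_isInvertible (SurfInt.Effective.isInvertible_idealMod
      (Ideal.EffCartier.isEffCartier_pow hσ.1 b))) (Twist.isCoh_structureModule X)
    (SurfInt.Effective.isCoh_quotMod _)
  change FGA.eulerCharLE k X (Coh.structureModule X) 2 =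
    FGA.eulerCharLE k X (_root_.ClSub.idealMod (EE ^ b)) 2 +
      FGA.eulerCharLE k X (_root_.ClSub.quotMod (EE ^ b)) 2 at h
  linarith

/-- `E² = -1`. -/
theorem intNum_exceptional_self :
    FGA.intNum k X 2 ![_root_.ClSub.idealMod EE, _root_.ClSub.idealMod EE]
      (Coh.structureModule X) = -1 := by
  haveI := isProper_X k hx hσk hσ
  haveI := Curves.GlobalSections.isNoetherian_of_proper k X
  haveI := isIntegral_X k hdim hx hσk hσ
  obtain ⟨e⟩ := SurfInt.Mul.nonempty_idealMod_mul (isEffCartier_E k hdim hreg hx hσk hσ) EE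
  have h1 := eulerCharLE_ideal k hdim hreg hx hσk hσ 1
  have h2 := eulerCharLE_ideal k hdim hreg hx hσk hσ 2
  rw [eulerCharLE_quot k hdim hreg hx hσk hσ 1 (Or.inl rfl), pow_one] at h1
  rw [eulerCharLE_quot k hdim hreg hx hσk hσ 2 (Or.inr rfl), sq, ← Chi.eulerCharLE_of_iso e] at h2
  simp only [if_pos, show ¬ (2 = 1) from by decide, if_false] at h1 h2
  rw [SurfInt.Hodge.intNum_expand]
  linarith

end Groth.Agent.Lib.PointBlow96
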