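import Groth.Agent.Lib.PointBlow96.Quot
import Groth.Agent.Lib.Regular.Quotient

/-!
# The stalk at the centre of the direct image of `O/E^b`
-/

set_option autoImplicit false
set_option linter.style.haveILetI false
set_option linter.unusedSectionVars false
universe u

open CategoryTheory CategoryTheory.Limits AlgebraicGeometry TopologicalSpace Opposite

namespace Groth.Agent.Lib.PointBlow96

open Groth.Agent.Lib Groth.Agent.Lib.Modules

section Algebra

variable {A : Type u} [CommRing A] [IsRegularLocalRing A] (hA : ringKrullDim A = 2)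

include hA

theorem spanFinrank_eq_two : (IsLocalRing.maximalIdeal A).spanFinrank = 2 := by
  have h := IsRegularLocalRing.spanFinrank_maximalIdeal (R := A)
  rw [hA] at h
  exact_mod_cast h

theorem maximalIdeal_ne_span_singleton (a : A) :
    IsLocalRing.maximalIdeal A ≠ Ideal.span {a} := fun h => by
  have h2 := spanFinrank_eq_two hA
  have h1 : (IsLocalRing.maximalIdeal A).spanFinrank ≤ 1 := by
    rw [h]
    exact (Submodule.spanFinrank_span_le_ncard_of_finite (Set.finite_singleton a)).trans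
      (Set.ncard_singleton a).le
  omega

theorem pair_spec {γ₁ γ₂ : A} (h : Ideal.span {γ₁, γ₂} = IsLocalRing.maximalIdeal A) :
    IsDomain (A ⧸ Ideal.span {γ₂}) ∧ γ₁ ∉ Ideal.span {γ₂} := by
  classical
  refine ⟨?_, fun h1 => maximalIdeal_ne_span_singleton hA γ₂ ?_⟩
  · have hq := Regular.Quotient.quotient_of_gens ({γ₂} : Finset A) {γ₁}
      (by rw [← h, Finset.coe_union, Finset.coe_singleton, Finset.coe_singleton,
        Set.singleton_union, Set.pair_comm])
      (by rw [hA]; simp)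
    have h1 := hq.1
    rw [Finset.coe_singleton] at h1
    exact Regular.Quotient.isDomain _
  · rw [← h, Ideal.span_insert, sup_eq_right, Ideal.span_singleton_le_iff_mem]
    exact h1

/-- A parameter that lies in `(γ₁², γ₂)` for each system `(γ₁, γ₂)` lies in the square of the
maximal ideal. -/
theorem mem_sq_of_forall {f : A} (hf : f ∈ IsLocalRing.maximalIdeal A)
    (H : ∀ γ₁ γ₂ : A, Ideal.span {γ₁, γ₂} = IsLocalRing.maximalIdeal A →
      f ∈ Ideal.span {γ₁} ^ 2 ⊔ Ideal.span {γ₂}) : f ∈ IsLocalRing.maximalIdeal A ^ 2 := by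
  classical
  by_contra hf2
  obtain ⟨t, ht, hc⟩ := Regular.Quotient.exists_gens_of_notMem_sq hf hf2
  rw [spanFinrank_eq_two hA] at hc
  obtain ⟨γ, rfl⟩ := Finset.card_eq_one.1 (show t.card = 1 by omega)
  have h : Ideal.span {f, γ} = IsLocalRing.maximalIdeal A := by
    rw [← ht, Finset.coe_union, Finset.coe_singleton, Finset.coe_singleton, Set.singleton_union]
  obtain ⟨-, hnot⟩ := pair_spec hA h
  have h1 := H f γ h
  rw [Ideal.span_singleton_pow, Submodule.mem_sup] at h1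
  obtain ⟨a, ha, c, hc, hac⟩ := h1
  obtain ⟨e, rfl⟩ := Ideal.mem_span_singleton'.1 ha
  have hu : IsUnit (1 - e * f) := IsLocalRing.isUnit_one_sub_self_of_mem_nonunits _
    ((IsLocalRing.mem_maximalIdeal _).1 (Ideal.mul_mem_left _ e hf))
  have h2 : (1 - e * f) * f ∈ Ideal.span {γ} := by
    rwa [show (1 - e * f) * f = c by linear_combination hac.symm]
  exact hnot ((Ideal.unit_mul_mem_iff_mem _ hu).1 h2)

end Algebra

variable {Y X : Scheme.{u}} {σ : X ⟶ Y} {x : Y} (hx : IsClosed ({x} : Set Y))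

variable (σ) in
/-- `O_Y ⟶ σ_* O_X ⟶ σ_* (O_X / J)`. -/
noncomputable def nu (J : X.IdealSheafData) :
    Coh.structureModule Y ⟶ (Scheme.Modules.pushforward σ).obj (_root_.ClSub.quotMod J) :=
  _root_.ClSub.unitToPush σ ≫ (Scheme.Modules.pushforward σ).map (_root_.ClSub.toSubscheme J)

theorem nu_app (J : X.IdealSheafData) (W : Y.Opens) (s : Γ(Y, W)) :
    (nu σ J).app W s = (_root_.ClSub.toSubscheme J).app (σ ⁻¹ᵁ W) (σ.app W s) := rfl

local notation "Ex" => BlowUp.exceptional σ (ptI hx)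

variable [IsLocallyNoetherian Y] [IsRegularLocalRing (Y.presheaf.stalk x)]
  (hd : ringKrullDim (Y.presheaf.stalk x) = 2) (hσ : BlowUp.IsBlowUp σ (ptI hx))

include hd hσ

/-- `O_Y ⟶ σ_* (O_X/E^b)` is an epimorphism. -/
theorem nu_stalk_surjective (hO : ∀ W : Y.Opens, Function.Surjective (σ.app W)) (b : ℕ) (y : Y) :
    Function.Surjective (StalkModule.stalkMapₗ (nu σ (BlowUp.exceptional σ (ptI hx) ^ b)) y) := by
  intro v
  obtain ⟨U, hyU, m, rfl⟩ := TopCat.Presheaf.exists_germ_eq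
    ((Scheme.Modules.pushforward σ).obj
      (_root_.ClSub.quotMod (BlowUp.exceptional σ (ptI hx) ^ b))).presheaf v
  obtain ⟨W, hW, hyW, hle⟩ := exists_good hx hd y hyU
  rw [← TopCat.Presheaf.germ_res_apply _ (homOfLE hle) y hyW m]
  obtain ⟨s, hs⟩ := surjective_toSubscheme hσ hW b
    (((Scheme.Modules.pushforward σ).obj
      (_root_.ClSub.quotMod (BlowUp.exceptional σ (ptI hx) ^ b))).presheaf.map (homOfLE hle).op m)
  obtain ⟨r, rfl⟩ := hO W s
  refine ⟨(Coh.structureModule Y).presheaf.germ W y hyW r, ?_⟩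
  rw [StalkModule.stalkMapₗ_germ, nu_app]
  exact congrArg _ hs

/-- The powers of the maximal ideal die in `σ_* (O_X/E^b)`. -/
theorem nu_germ_eq_zero (b : ℕ) {U : Y.Opens} (hxU : x ∈ U) (f : Γ(Y, U))
    (hf : Y.presheaf.germ U x hxU f ∈ IsLocalRing.maximalIdeal (Y.presheaf.stalk x) ^ b) :
    StalkModule.stalkMapₗ (nu σ (BlowUp.exceptional σ (ptI hx) ^ b)) x
      ((Coh.structureModule Y).presheaf.germ U x hxU f) = 0 := by
  set J := BlowUp.exceptional σ (ptI hx) ^ b with hJ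
  set L : Y.presheaf.stalk x →ₗ[Y.presheaf.stalk x] _ :=
    StalkModule.stalkMapₗ (nu σ J) x ∘ₗ (SurfInt.Stalk.oStalk x).symm.toLinearMap with hL
  have hgerm : ∀ {V : Y.Opens} (hxV : x ∈ V) (g : Γ(Y, V)), L (Y.presheaf.germ V x hxV g) =
      StalkModule.stalkMapₗ (nu σ J) x ((Coh.structureModule Y).presheaf.germ V x hxV g) := by
    intro V hxV g
    exact congrArg _ ((LinearEquiv.symm_apply_eq _).2 (SurfInt.Stalk.oStalk_germ hxV g).symm)
  rw [← hgerm]
  refine (show IsLocalRing.maximalIdeal (Y.presheaf.stalk x) ^ b ≤ LinearMap.ker L from ?_) hf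
  obtain ⟨W, hW, hxW, -⟩ := exists_good hx hd x (O := ⊤) trivial
  have hWa := hW.isAffineOpen
  letI := TopCat.Presheaf.algebra_section_stalk Y.presheaf (⟨x, hxW⟩ : W)
  haveI := hWa.isLocalization_stalk ⟨x, hxW⟩
  rw [← IsLocalization.AtPrime.map_eq_maximalIdeal (hWa.primeIdealOf ⟨x, hxW⟩).asIdeal
      (Y.presheaf.stalk x), ← ideal_eq_primeIdealOf hx hWa hxW, ← Ideal.map_pow, Ideal.map,
    Ideal.span_le]
  rintro _ ⟨g, hg, rfl⟩
  change L (Y.presheaf.germ W x hxW g) = 0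
  rw [hgerm, StalkModule.stalkMapₗ_germ, nu_app]
  refine (congrArg _ ?_).trans (map_zero _)
  obtain ⟨hW', g₁, g₂, hgen⟩ := hW
  obtain ⟨U', V', hU', hV', -, hcov, -, -⟩ := exists_cover hσ hW' g₁ g₂ hgen
  have hUW : U' ≤ σ ⁻¹ᵁ W := le_sup_left.trans hcov.le
  have hVW : V' ≤ σ ⁻¹ᵁ W := le_sup_right.trans hcov.le
  have hz : ∀ (T : X.Opens) (hT : IsAffineOpen T) (e : T ≤ σ ⁻¹ᵁ W),
      (_root_.ClSub.quotMod J).presheaf.map (homOfLE e).op
        ((_root_.ClSub.toSubscheme J).app (σ ⁻¹ᵁ W) (σ.app W g)) = 0 := fun T hT e => by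
    refine (congr($((_root_.ClSub.toSubscheme J).mapPresheaf.naturality (homOfLE e).op)
      (σ.app W g))).symm.trans ?_
    refine (toSubscheme_app_eq_zero_iff J hT _).2 ?_
    rw [hJ, exc_pow_ideal hWa b T hT e]
    exact Ideal.mem_map_of_mem (σ.appLE W T e).hom hg
  refine TopCat.Sheaf.eq_of_locally_eq₂
    (F := ⟨(_root_.ClSub.quotMod J).presheaf, (_root_.ClSub.quotMod J).isSheaf⟩)
    (homOfLE hUW) (homOfLE hVW) hcov.ge _ _ ?_ ?_
  · exact (hz U' hU' hUW).trans (map_zero _).symm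
  · exact (hz V' hV' hVW).trans (map_zero _).symm

/-- The test at a system of parameters. -/
theorem mem_of_nu_germ_eq_zero (b : ℕ) {U : Y.Opens} (hxU : x ∈ U) (f : Γ(Y, U))
    (hf : StalkModule.stalkMapₗ (nu σ (BlowUp.exceptional σ (ptI hx) ^ b)) x
      ((Coh.structureModule Y).presheaf.germ U x hxU f) = 0)
    {γ₁ γ₂ : Y.presheaf.stalk x}
    (hγ : Ideal.span {γ₁, γ₂} = IsLocalRing.maximalIdeal (Y.presheaf.stalk x)) :
    Y.presheaf.germ U x hxU f ∈ Ideal.span {γ₁} ^ b ⊔ Ideal.span {γ₂} := by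
  set J := BlowUp.exceptional σ (ptI hx) ^ b with hJ
  set G := (Scheme.Modules.pushforward σ).obj (_root_.ClSub.quotMod J)
  rw [StalkModule.stalkMapₗ_germ] at hf
  obtain ⟨U₁, hxU₁, i₁, i₂, heq⟩ := G.presheaf.germ_eq x hxU hxU _ 0 (hf.trans (map_zero _).symm)
  rw [map_zero] at heq
  obtain ⟨U₂, hU₂, hxU₂, hle₂⟩ := exists_isAffineOpen_mem_and_subset hxU₁
  letI := TopCat.Presheaf.algebra_section_stalk Y.presheaf (⟨x, hxU₂⟩ : U₂)
  haveI := hU₂.isLocalization_stalk ⟨x, hxU₂⟩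
  set P := (hU₂.primeIdealOf ⟨x, hxU₂⟩).asIdeal
  have key : ∀ a : Y.presheaf.stalk x, ∃ n : Γ(Y, U₂),
      Ideal.span {Y.presheaf.germ U₂ x hxU₂ n} = Ideal.span {a} := fun a => by
    obtain ⟨⟨n, s⟩, hns⟩ := IsLocalization.surj P.primeCompl a
    refine ⟨n, ?_⟩
    have hns' : a * algebraMap Γ(Y, U₂) (Y.presheaf.stalk x) s =
        algebraMap Γ(Y, U₂) (Y.presheaf.stalk x) n := hns
    change Ideal.span {algebraMap Γ(Y, U₂) (Y.presheaf.stalk x) n} = _
    rw [← hns']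
    exact Ideal.span_singleton_mul_right_unit (IsLocalization.map_units _ s) a
  obtain ⟨n₁, hn₁⟩ := key γ₁
  obtain ⟨n₂, hn₂⟩ := key γ₂
  have hspan : IsLocalRing.maximalIdeal (Y.presheaf.stalk x) =
      Ideal.span {Y.presheaf.germ U₂ x hxU₂ n₁, Y.presheaf.germ U₂ x hxU₂ n₂} := by
    rw [← hγ, Ideal.span_insert, Ideal.span_insert, hn₁, hn₂]
  obtain ⟨d, hxd, hgen⟩ := exists_basicOpen_span hx hU₂ hxU₂ n₁ n₂ hspan
  set W := Y.basicOpen d with hWdef
  have hW : IsAffineOpen W := hU₂.basicOpen d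
  set ρ := Y.presheaf.map (homOfLE (Y.basicOpen_le d)).op
  set g₁ := ρ n₁ with hg₁def
  set g₂ := ρ n₂ with hg₂def
  have hWU : W ≤ U := (Y.basicOpen_le d).trans (hle₂.trans i₁.le)
  set f' := Y.presheaf.map (homOfLE hWU).op f with hf'
  have hzero : (nu σ J).app W f' = 0 := by
    refine (congr($((nu σ J).mapPresheaf.naturality (homOfLE hWU).op) f)).trans ?_
    change G.presheaf.map (homOfLE hWU).op ((nu σ J).app U f) = 0
    have h1 := congrArg (G.presheaf.map (homOfLE ((Y.basicOpen_le d).trans hle₂)).op) heq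
    rw [map_zero, ← ConcreteCategory.comp_apply, ← Functor.map_comp] at h1
    exact h1
  rw [nu_app] at hzero
  obtain ⟨U', V', hU', -, -, hcov, -, htest⟩ := exists_cover hσ hW g₁ g₂ hgen
  have hUW : U' ≤ σ ⁻¹ᵁ W := le_sup_left.trans hcov.le
  have hmem : σ.appLE W U' hUW f' ∈ J.ideal ⟨U', hU'⟩ := by
    refine (toSubscheme_app_eq_zero_iff J hU' _).1 ?_
    refine (congr($((_root_.ClSub.toSubscheme J).mapPresheaf.naturality (homOfLE hUW).op)
      (σ.app W f'))).trans ?_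
    exact (congrArg ((_root_.ClSub.quotMod J).presheaf.map (homOfLE hUW).op) hzero).trans
      (map_zero _)
  rw [hJ, exc_pow_ideal hW b U' hU' hUW] at hmem
  -- the test ring
  let B : CommRingCat.{u} := CommRingCat.of (Y.presheaf.stalk x ⧸ Ideal.span {γ₂})
  let φ : Γ(Y, W) ⟶ B := Y.presheaf.germ W x hxd ≫ CommRingCat.ofHom (Ideal.Quotient.mk _)
  obtain ⟨hdom, hnot⟩ := pair_spec hd hγ
  haveI : IsDomain B := hdom
  have hgerm : ∀ n, Y.presheaf.germ W x hxd (ρ n) = Y.presheaf.germ U₂ x hxU₂ n := fun n =>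
    Y.presheaf.germ_res_apply _ x hxd n
  have hφ₁ : Ideal.span {φ.hom g₁} = Ideal.span {Ideal.Quotient.mk _ γ₁} := by
    have h := congrArg (Ideal.map (Ideal.Quotient.mk (Ideal.span {γ₂}))) hn₁
    rw [Ideal.map_span, Ideal.map_span, Set.image_singleton, Set.image_singleton] at h
    change Ideal.span {Ideal.Quotient.mk _ (Y.presheaf.germ W x hxd (ρ n₁))} = _
    rw [hgerm]
    exact h
  have hφ₂ : φ.hom g₂ = 0 := by
    change Ideal.Quotient.mk _ (Y.presheaf.germ W x hxd (ρ n₂)) = 0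
    rw [hgerm, Ideal.Quotient.eq_zero_iff_mem, ← hn₂]
    exact Ideal.mem_span_singleton_self _
  have hφne : φ.hom g₁ ≠ 0 := fun h0 => hnot (Ideal.Quotient.eq_zero_iff_mem.1
    (Ideal.span_singleton_eq_bot.1 (by rw [← hφ₁, h0]; exact Ideal.span_singleton_eq_bot.2 rfl)))
  have hmap : ((ptI hx).ideal ⟨W, hW⟩).map φ.hom = Ideal.span {φ.hom g₁} := by
    rw [← hgen, Ideal.map_span, Set.image_pair, hφ₂, Ideal.span_insert,
      Ideal.span_singleton_eq_bot.2 rfl, sup_bot_eq]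
  obtain ⟨ψ, hψ⟩ := htest hUW B φ (mem_nonZeroDivisors_of_ne_zero hφne) hmap
  have h2 := Ideal.mem_map_of_mem ψ.hom hmem
  rw [Ideal.map_map, ← CommRingCat.hom_comp, hψ, Ideal.map_pow, hmap, hφ₁,
    ← CommRingCat.comp_apply, hψ] at h2
  change Ideal.Quotient.mk _ (Y.presheaf.germ W x hxd (Y.presheaf.map (homOfLE hWU).op f)) ∈ _ at h2
  rw [Y.presheaf.germ_res_apply] at h2
  have h3 : Ideal.Quotient.mk (Ideal.span {γ₂}) (Y.presheaf.germ U x hxU f) ∈
      (Ideal.span {γ₁} ^ b).map (Ideal.Quotient.mk (Ideal.span {γ₂})) := by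
    rw [Ideal.map_pow, Ideal.map_span, Set.image_singleton]
    exact h2
  exact Ideal.mem_quotient_iff_mem_sup.1 h3

/-- The kernel of `O_{Y,x} ⟶ σ_*(O_X/E^b)_x` for `b = 1, 2`. -/
theorem nu_germ_eq_zero_iff (b : ℕ) (hb : b = 1 ∨ b = 2) {U : Y.Opens} (hxU : x ∈ U) (f : Γ(Y, U)) :
    StalkModule.stalkMapₗ (nu σ (BlowUp.exceptional σ (ptI hx) ^ b)) x
        ((Coh.structureModule Y).presheaf.germ U x hxU f) = 0 ↔
      Y.presheaf.germ U x hxU f ∈ IsLocalRing.maximalIdeal (Y.presheaf.stalk x) ^ b := by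
  refine ⟨fun h => ?_, nu_germ_eq_zero hx hd hσ b hxU f⟩
  obtain ⟨a, ha, -⟩ := PointBlow85.exists_params _ hd
  have hpair : Ideal.span {a 0, a 1} = IsLocalRing.maximalIdeal (Y.presheaf.stalk x) := by
    rw [← ha]; congr 1; ext z; simp [Fin.exists_fin_two, eq_comm]
  have hm : Y.presheaf.germ U x hxU f ∈ IsLocalRing.maximalIdeal (Y.presheaf.stalk x) := by
    have h1 := mem_of_nu_germ_eq_zero hx hd hσ b hxU f h hpair
    have hle : Ideal.span {a 0} ^ b ⊔ Ideal.span {a 1} ≤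
        IsLocalRing.maximalIdeal (Y.presheaf.stalk x) := by
      rw [← hpair, Ideal.span_insert]
      exact sup_le_sup (Ideal.pow_le_self (by omega)) le_rfl
    exact hle h1
  rcases hb with rfl | rfl
  · rwa [pow_one]
  · exact mem_sq_of_forall hd hm fun γ₁ γ₂ hγ => mem_of_nu_germ_eq_zero hx hd hσ 2 hxU f h hγ

end Groth.Agent.Lib.PointBlow96
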