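import Groth.Agent.Lib.PointBlow96.Stein
import Groth.Agent.Lib.Modules.StalkModule
import Groth.Agent.Lib.SurfInt.Stalk
import Groth.Agent.Lib.PointBlow96.Kernel
import Groth.Agent.Lib.Cyc.DimFun
import Groth.Agent.H22.BlowUpComp.Extend

/-!
# The blow-up of a point of a regular surface, without integrality
-/

set_option autoImplicit false
set_option linter.style.haveILetI false
set_option linter.unusedSectionVars false
universe u

open CategoryTheory CategoryTheory.Limits AlgebraicGeometry TopologicalSpace Opposite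

namespace Groth.Agent.Lib.PointBlow96

open Groth.Agent.Lib Groth.Agent.Lib.Modules

/-- A regular locally noetherian scheme has integral affine neighbourhoods. -/
theorem exists_integral_affine {Y : Scheme.{u}} [IsLocallyNoetherian Y]
    (hreg : ∀ y : Y, IsRegularLocalRing (Y.presheaf.stalk y)) (y : Y) {O : Y.Opens} (hy : y ∈ O) :
    ∃ W : Y.Opens, IsAffineOpen W ∧ y ∈ W ∧ W ≤ O ∧ IsIntegral (W : Scheme.{u}) := by
  haveI := hreg y
  haveI : IsDomain (Y.presheaf.stalk y) := Regular.Quotient.isDomain _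
  obtain ⟨W, hyW, hW, hle, hinj⟩ := Y.exists_le_and_germ_injective y O hy
  haveI : IsAffine (W : Scheme.{u}) := hW
  haveI : Nonempty (W : Scheme.{u}) := ⟨⟨y, hyW⟩⟩
  haveI : IsDomain Γ(Y, W) := hinj.isDomain _
  haveI : IsDomain Γ((W : Scheme.{u}), ⊤) :=
    MulEquiv.isDomain Γ(Y, W) W.topIso.commRingCatIsoToRingEquiv.toMulEquiv
  exact ⟨W, hW, hyW, hle, isIntegral_of_isAffine_of_isDomain _⟩

section Integral

variable {Y X : Scheme.{u}} [IsIntegral Y] {I : Y.IdealSheafData} {σ : X ⟶ Y}

theorem birational_of_notMem (h : genericPoint Y ∉ I.support) (hσ : BlowUp.IsBlowUp σ I) :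
    ∃ (_ : IsIntegral X),
      σ (genericPoint X) = genericPoint Y ∧ IsIso (σ.stalkMap (genericPoint X)) ∧
        Function.Bijective (σ.residueFieldMap (genericPoint X)).hom := by
  have hne : I ≠ ⊥ := by
    rintro rfl
    exact h (by rw [Scheme.IdealSheafData.support_bot]; trivial)
  obtain ⟨hX, hgen, hres⟩ := S2348.result I hne σ hσ
  refine ⟨hX, hgen, Ideal.BlowUp.isIso_stalkMap_off hσ _ fun h' => ?_, hres⟩
  rw [Scheme.IdealSheafData.support_comap] at h'
  change σ (genericPoint X) ∈ (I.support : Set Y) at h'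
  rw [hgen] at h'
  exact h h'

theorem isIso_app_of_notMem [IsLocallyNoetherian Y]
    (hreg : ∀ y : Y, IsRegularLocalRing (Y.presheaf.stalk y)) (h : genericPoint Y ∉ I.support)
    (hσ : BlowUp.IsBlowUp σ I) (U : Y.Opens) : IsIso (σ.app U) := by
  obtain ⟨hX, hgen, hbir, -⟩ := birational_of_notMem h hσ
  haveI : IsProper σ := BlowUpExists.isProper_of_isBlowUp hσ fun U => by
    haveI : IsNoetherianRing Γ(Y, U.1) := IsLocallyNoetherian.component_noetherian U
    exact IsNoetherian.noetherian _
  exact H34.Stein.isIso_app_of_birational σ (fun y => by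
    haveI := hreg y
    exact ⟨Regular.Quotient.isDomain _, Regular.UFD.isIntegrallyClosed _⟩) hgen hbir U

end Integral

/-- Open immersions preserve the dimension of points. -/
theorem pdim_openImm {k : Type u} [Field k] {U Z : Scheme.{u}} (j : U ⟶ Z) [IsOpenImmersion j]
    (f : Z ⟶ Spec (CommRingCat.of k)) [LocallyOfFiniteType f] (z : U) :
    VarDim.Basic.pdim (j ≫ f) z = VarDim.Basic.pdim f (j z) := by
  rw [VarDim.Fibre.pdim_eq_add (j ≫ f) f j rfl z]
  have h : VarDim.Basic.tdAt j z = 0 := by
    rw [VarDim.Basic.tdAt, Cyc.Residue.trdegAt_eq_zero_of_finite _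
      (RingHom.Finite.of_surjective _
        (ConcreteCategory.bijective_of_isIso (j.residueFieldMap z)).2), map_zero]
  rw [h, add_zero]

section Surface

variable {k : Type u} [Field k] {Y X : Scheme.{u}} (f : Y ⟶ Spec (CommRingCat.of k))
  [LocallyOfFiniteType f]
  (hdimZ : ∀ Z ∈ irreducibleComponents (Y : Type u), topologicalKrullDim Z = 2)
  (hreg : ∀ y : Y, IsRegularLocalRing (Y.presheaf.stalk y))
  {x : Y} (hx : IsClosed ({x} : Set Y)) {σ : X ⟶ Y} (hσ : BlowUp.IsBlowUp σ (ptI hx))

include hdimZ in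
/-- Every point has dimension at most two. -/
theorem pdim_le_two (y : Y) : VarDim.Basic.pdim f y ≤ 2 := by
  have hZ : irreducibleComponent y ∈ irreducibleComponents (Y : Type u) :=
    irreducibleComponent_mem_irreducibleComponents y
  have h := VarDim.Basic.pdim_le_topologicalKrullDim f
    (isClosed_irreducibleComponent (x := y)).isLocallyClosed mem_irreducibleComponent
  rw [hdimZ _ hZ] at h
  exact_mod_cast h

include f hdimZ in
theorem dim_le_two : topologicalKrullDim Y ≤ 2 := by
  rw [← (Homeomorph.Set.univ (Y : Type u)).isHomeomorph.topologicalKrullDim_eq]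
  exact (VarDim.Basic.topologicalKrullDim_le_iff f isOpen_univ.isLocallyClosed _).2
    fun w _ => by exact_mod_cast pdim_le_two f hdimZ w

theorem pdim_generic {W : Y.Opens} [IsIntegral (W : Scheme.{u})] (y : Y) (hy : y ∈ W) :
    W.ι (genericPoint (W : Scheme.{u})) ⤳ y :=
  ((genericPoint_spec (W : Scheme.{u})).specializes (Set.mem_univ (⟨y, hy⟩ : W))).map W.ι.continuous

include f hdimZ hreg hx in
/-- A closed point has a two-dimensional local ring. -/
theorem stalk_dim_two : ringKrullDim (Y.presheaf.stalk x) = 2 := by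
  haveI : IsLocallyNoetherian Y := LocallyOfFiniteType.isLocallyNoetherian f
  obtain ⟨W, hW, hxW, -, hWi⟩ := exists_integral_affine hreg x (O := ⊤) trivial
  set ξ := W.ι (genericPoint (W : Scheme.{u})) with hξ
  have hall : ∀ y, y ⤳ x → ξ ⤳ y := fun y hy => pdim_generic y (hy.mem_open W.isOpen hxW)
  rw [Cyc.DimFun.ringKrullDim_stalk_of_forall (Cyc.FieldDim.isDimFun_fdelta f) x ξ
    (pdim_generic x hxW) hall, VarDim.Basic.fdelta_eq, VarDim.Basic.fdelta_eq,
    (VarDim.Basic.pdim_eq_zero_iff f x).2 hx]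
  have hZ : irreducibleComponent x ∈ irreducibleComponents (Y : Type u) :=
    irreducibleComponent_mem_irreducibleComponents x
  have hirr : IsIrreducible (irreducibleComponent x) := isIrreducible_irreducibleComponent
  set ζ := hirr.genericPoint with hζ
  have hgen : IsGenericPoint ζ (irreducibleComponent x) := by
    have h := hirr.isGenericPoint_genericPoint_closure
    rwa [(isClosed_irreducibleComponent (x := x)).closure_eq] at h
  have hdζ : VarDim.Basic.pdim f ζ = 2 := by
    have h := VarDim.Basic.topologicalKrullDim_isGenericPoint f hgen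
    rw [hdimZ _ hZ] at h
    exact_mod_cast h.symm
  have h1 := VarDim.Basic.pdim_le f (hall ζ (hgen.specializes mem_irreducibleComponent))
  have h2 := pdim_le_two f hdimZ ξ
  rw [show VarDim.Basic.pdim f ξ = 2 by omega]
  rfl

include f hdimZ hreg in
theorem generic_notMem_centre {W : Y.Opens} [IsIntegral (W : Scheme.{u})] :
    genericPoint (W : Scheme.{u}) ∉ ((ptI hx).comap W.ι).support := by
  intro h
  rw [Scheme.IdealSheafData.support_comap] at h
  change W.ι (genericPoint (W : Scheme.{u})) ∈ ((ptI hx).support : Set Y) at h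
  rw [Scheme.IdealSheafData.coe_support_vanishingIdeal] at h
  have hd := stalk_dim_two f hdimZ hreg hx
  rw [← show W.ι (genericPoint (W : Scheme.{u})) = x from h] at hd
  rw [ringKrullDim_eq_of_ringEquiv (asIso (W.ι.stalkMap (genericPoint (W : Scheme.{u})))).commRingCatIsoToRingEquiv] at hd
  have h0 : ringKrullDim ((W : Scheme.{u}).presheaf.stalk (genericPoint (W : Scheme.{u}))) = 0 :=
    ringKrullDim_eq_zero_of_field (W : Scheme.{u}).functionField
  rw [h0] at hd
  exact absurd hd (by decide)

include f hdimZ hreg hσ in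
/-- `σ` is bijective on functions over integral affine opens. -/
theorem app_bijective_of_integral {W : Y.Opens} [IsIntegral (W : Scheme.{u})] :
    Function.Bijective (σ.app W) := by
  haveI : IsLocallyNoetherian Y := LocallyOfFiniteType.isLocallyNoetherian f
  have hregW : ∀ w : W, IsRegularLocalRing ((W : Scheme.{u}).presheaf.stalk w) := fun w => by
    haveI := hreg (W.ι w)
    exact IsRegularLocalRing.of_ringEquiv (asIso (W.ι.stalkMap w)).commRingCatIsoToRingEquiv
  have h := isIso_app_of_notMem hregW (generic_notMem_centre f hdimZ hreg hx)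
    (H22.BlowUpComp.isBlowUp_restrict hσ W) ⊤
  haveI h' : IsIso (σ.app (W.ι ''ᵁ ⊤) ≫
      X.presheaf.map (eqToHom (image_morphismRestrict_preimage σ W ⊤)).op) := by
    have e := morphismRestrict_app σ W ⊤
    convert h using 1 <;> first | rfl | exact heq_of_eq e.symm | exact e.symm | skip
  haveI : IsIso (σ.app (W.ι ''ᵁ ⊤)) := IsIso.of_isIso_comp_right _
    (X.presheaf.map (eqToHom (image_morphismRestrict_preimage σ W ⊤)).op)
  have h'' := ConcreteCategory.bijective_of_isIso (σ.app (W.ι ''ᵁ ⊤))
  rwa [show W.ι ''ᵁ ⊤ = W from by simp] at h''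

include f hdimZ hreg hσ in
/-- `O_Y ⟶ σ_* O_X` is an isomorphism. -/
theorem isIso_unit_local : IsIso (_root_.ClSub.unitToPush σ) := by
  haveI : IsLocallyNoetherian Y := LocallyOfFiniteType.isLocallyNoetherian f
  haveI : Mono (_root_.ClSub.unitToPush σ) := by
    rw [StalkModule.mono_iff_stalkMapₗ_injective]
    intro y
    refine (injective_iff_map_eq_zero _).2 fun v hv => ?_
    obtain ⟨U, hyU, m, rfl⟩ := TopCat.Presheaf.exists_germ_eq (Coh.structureModule Y).presheaf v
    rw [StalkModule.stalkMapₗ_germ] at hv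
    obtain ⟨U₁, hyU₁, i₁, i₂, heq⟩ := TopCat.Presheaf.germ_eq _ y hyU hyU _ 0 (hv.trans (map_zero _).symm)
    rw [map_zero] at heq
    obtain ⟨W, hW, hyW, hle, hWi⟩ := exists_integral_affine hreg y hyU₁
    rw [← TopCat.Presheaf.germ_res_apply _ (homOfLE (hle.trans i₁.le)) y hyW m]
    refine (congrArg _ ?_).trans (map_zero _)
    refine (app_bijective_of_integral f hdimZ hreg hx hσ (W := W)).1 (Eq.trans ?_ (map_zero _).symm)
    refine (congr($((_root_.ClSub.unitToPush σ).mapPresheaf.naturality (homOfLE (hle.trans i₁.le)).op) m)).trans ?_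
    have h1 := congrArg (((Scheme.Modules.pushforward σ).obj (Coh.structureModule X)).presheaf.map (homOfLE hle).op) heq
    rw [map_zero, ← ConcreteCategory.comp_apply, ← Functor.map_comp] at h1
    exact h1
  haveI : Epi (_root_.ClSub.unitToPush σ) := by
    rw [StalkModule.epi_iff_stalkMapₗ_surjective]
    intro y v
    obtain ⟨U, hyU, m, rfl⟩ := TopCat.Presheaf.exists_germ_eq
      ((Scheme.Modules.pushforward σ).obj (Coh.structureModule X)).presheaf v
    obtain ⟨W, hW, hyW, hle, hWi⟩ := exists_integral_affine hreg y hyU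
    rw [← TopCat.Presheaf.germ_res_apply _ (homOfLE hle) y hyW m]
    obtain ⟨r, hr⟩ := (app_bijective_of_integral f hdimZ hreg hx hσ (W := W)).2
      (((Scheme.Modules.pushforward σ).obj (Coh.structureModule X)).presheaf.map (homOfLE hle).op m)
    refine ⟨(Coh.structureModule Y).presheaf.germ W y hyW r, ?_⟩
    rw [StalkModule.stalkMapₗ_germ]
    exact congrArg _ hr
  exact isIso_of_mono_of_epi _

include f hdimZ hreg hσ in
theorem app_bijective_local (U : Y.Opens) : Function.Bijective (σ.app U) := by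
  haveI := isIso_unit_local f hdimZ hreg hx hσ
  have h : IsIso ((_root_.ClSub.unitToPush σ).app U) := inferInstance
  exact (ConcreteCategory.isIso_iff_bijective ((_root_.ClSub.unitToPush σ).app U)).1 h

include hdimZ hreg hσ in
/-- Dimensions of points of the blow-up. -/
theorem pdim_blowUp (qX : X ⟶ Spec (CommRingCat.of k)) [LocallyOfFiniteType qX]
    (hq : σ ≫ f = qX) (w : X) :
    VarDim.Basic.pdim qX w ≤ 2 ∧
      (w ∈ (BlowUp.exceptional σ (ptI hx)).support → VarDim.Basic.pdim qX w ≤ 1) := by
  haveI : IsLocallyNoetherian Y := LocallyOfFiniteType.isLocallyNoetherian f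
  obtain ⟨W, hW, hwW, -, hWi⟩ := exists_integral_affine hreg (σ w) (O := ⊤) trivial
  obtain ⟨hXW, hgen, -, hres⟩ := birational_of_notMem (generic_notMem_centre f hdimZ hreg hx)
    (H22.BlowUpComp.isBlowUp_restrict hσ W)
  set qW : ((σ ⁻¹ᵁ W : X.Opens) : Scheme.{u}) ⟶ Spec (CommRingCat.of k) := (σ ⁻¹ᵁ W).ι ≫ qX
  set η := genericPoint ((σ ⁻¹ᵁ W : X.Opens) : Scheme.{u}) with hη
  let w' : (σ ⁻¹ᵁ W : X.Opens) := ⟨w, hwW⟩
  have hsq : (σ ∣_ W) ≫ W.ι ≫ f = qW := by
    rw [← Category.assoc, morphismRestrict_ι, Category.assoc, hq]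
  have hηle : VarDim.Basic.pdim qW η ≤ 2 := by
    rw [VarDim.Fibre.pdim_eq_add qW (W.ι ≫ f) (σ ∣_ W) hsq η,
      show VarDim.Basic.tdAt (σ ∣_ W) η = 0 by
        rw [VarDim.Basic.tdAt, Cyc.Residue.trdegAt_eq_zero_of_finite _
          (RingHom.Finite.of_surjective _ hres.2), map_zero],
      add_zero, hgen, pdim_openImm]
    exact pdim_le_two f hdimZ _
  have hspec : η ⤳ w' := (genericPoint_spec ((σ ⁻¹ᵁ W : X.Opens) : Scheme.{u})).specializes (Set.mem_univ w')
  have hw : VarDim.Basic.pdim qX w = VarDim.Basic.pdim qW w' := (pdim_openImm (σ ⁻¹ᵁ W).ι qX w').symm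
  refine ⟨by rw [hw]; exact (VarDim.Basic.pdim_le qW hspec).trans hηle, fun hwE => ?_⟩
  have hne : η ≠ w' := by
    intro he
    refine generic_notMem_centre f hdimZ hreg hx (W := W) ?_
    rw [Scheme.IdealSheafData.support_comap] at hwE ⊢
    rw [← hgen, he]
    change W.ι ((σ ∣_ W) w') ∈ ((ptI hx).support : Set Y)
    rw [← Scheme.Hom.comp_apply, morphismRestrict_ι]
    exact hwE
  have := VarDim.Basic.pdim_lt qW hspec hne
  omega

end Surface

end Groth.Agent.Lib.PointBlow96
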