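import Groth.Agent.Lib.PointBlow96.Length
import Groth.Agent.Lib.Unram.Radicial

/-!
# The Euler characteristic of a closed point is its degree
-/

set_option autoImplicit false
set_option linter.style.haveILetI false
set_option linter.unusedSectionVars false
universe u

open CategoryTheory CategoryTheory.Limits AlgebraicGeometry TopologicalSpace Opposite

namespace Groth.Agent.Lib.PointBlow96

open Groth.Agent.Lib

variable {k : Type u} [Field k] {Y : Scheme.{u}} [Y.Over (Spec (CommRingCat.of k))]
  [IsProper (Y ↘ Spec (CommRingCat.of k))] {x : Y} (hx : IsClosed ({x} : Set Y))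

include hx in
theorem eulerCharLE_point_general (d : ℕ) :
    FGA.eulerCharLE k Y (Cyc.closureStructureSheaf x) d =
      (letI := Curv2.resAlgebra k Y x; (Module.finrank k (Y.residueField x) : ℤ)) := by
  haveI := Curves.GlobalSections.isNoetherian_of_proper k Y
  let Z := (IntMult.ptIdeal x).subscheme
  let i : Z ⟶ Y := (IntMult.ptIdeal x).subschemeι
  have hfin : ((IntMult.ptIdeal x).support : Set Y).Finite := by
    rw [show ((IntMult.ptIdeal x).support : Set Y) = closure {x} from rfl, hx.closure_eq]
    exact Set.finite_singleton x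
  rw [show Cyc.closureStructureSheaf x = _root_.ClSub.quotMod (IntMult.ptIdeal x) from rfl,
    SurfInt.Push.eulerCharLE_quotMod_of_finite (IntMult.ptIdeal x) hfin]
  letI : Z.Over (Spec (CommRingCat.of k)) := ⟨i ≫ (Y ↘ Spec (CommRingCat.of k))⟩
  haveI : IsIntegral Z := IntTheory.Curves.isIntegral_ptIdeal x
  haveI := TensorMod.QCohInv.isQCoh_structureModule Z
  have hrange : Set.range i = ({x} : Set Y) := by
    rw [Devissage.Closure.range_ptIdeal x, hx.closure_eq]
  obtain ⟨z, hz⟩ : x ∈ Set.range i := hrange.ge rfl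
  have hsub : Subsingleton Z := ⟨fun a b => i.isClosedEmbedding.injective
    ((hrange.le ⟨a, rfl⟩ : i a = x).trans (hrange.le ⟨b, rfl⟩ : i b = x).symm)⟩
  have h := SurfInt.Push.finrank_push (k := k) i rfl (Coh.structureModule Z) 0
  refine (congrArg Nat.cast (h.trans ?_))
  letI := Curves.GlobalSections.secModule k (Coh.structureModule Z)
  suffices main : Module.finrank k ((Coh.structureModule Z).val.obj (op ⊤) : Type u) =
      (fun y : Y => (letI := Curv2.resAlgebra k Y y; Module.finrank k (Y.residueField y))) (i z) by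
    rw [hz] at main
    rw [(Curves.GlobalSections.h0Linear k (Coh.structureModule Z)).finrank_eq]
    exact main
  letI := Curv2.resAlgebra k Y (i z)
  have hev : Function.Bijective (Z.Γevaluation z) := by
    constructor
    · haveI : IsField Γ(Z, ⊤) := ?_
      · letI := this.toField
        exact RingHom.injective (Z.Γevaluation z).hom
      haveI : Finite Z := Finite.of_subsingleton
      haveI : JacobsonSpace Z := LocallyOfFiniteType.jacobsonSpace (i ≫ (Y ↘ Spec (CommRingCat.of k)))
      haveI : DiscreteTopology Z := inferInstance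
      haveI : IsAffine Z := inferInstance
      haveI : Subsingleton (PrimeSpectrum Γ(Z, ⊤)) :=
        Z.isoSpec.schemeIsoToHomeo.toEquiv.symm.subsingleton
      obtain ⟨M, hM⟩ := Ideal.exists_maximal Γ(Z, ⊤)
      have hb : M = ⊥ := congrArg PrimeSpectrum.asIdeal (Subsingleton.elim
        (⟨M, hM.isPrime⟩ : PrimeSpectrum Γ(Z, ⊤)) ⟨⊥, Ideal.isPrime_bot⟩)
      exact Ring.isField_iff_maximal_bot.2 (hb ▸ hM)
    · intro v
      obtain ⟨w, rfl⟩ := Z.residue_surjective z v
      obtain ⟨W, hW, g, rfl⟩ := TopCat.Presheaf.exists_germ_eq Z.presheaf w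
      obtain rfl : W = ⊤ := eq_top_iff.mpr fun q _ => Subsingleton.elim z q ▸ hW
      exact ⟨g, rfl⟩
  have hi : Function.Bijective (i.residueFieldMap z).hom :=
    Unram.Radicial.bijective_residueFieldMap i z
  let ψ : (Y.residueField (i z)) ≃+ Γ(Z, ⊤) :=
    (AddEquiv.ofBijective (i.residueFieldMap z).hom.toAddMonoidHom hi).trans
      (AddEquiv.ofBijective (Z.Γevaluation z).hom.toAddMonoidHom hev).symm
  refine LinearEquiv.finrank_eq (LinearEquiv.symm ?_)
  refine { ψ with map_smul' := fun a v => ?_ }
  have key : (i.residueFieldMap z).hom (Curv2.resMap k Y (i z) a) =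
      Z.Γevaluation z (Coh.toGlobal (Z ↘ Spec (CommRingCat.of k)) a) := by
    refine (Scheme.Γevaluation_naturality_apply i z (Coh.toGlobal (Y ↘ Spec (CommRingCat.of k)) a)).trans
      (congrArg _ ?_)
    change i.appTop ((Y ↘ Spec (CommRingCat.of k)).appTop _) =
      (i ≫ (Y ↘ Spec (CommRingCat.of k))).appTop _
    rfl
  apply hev.1
  change Z.Γevaluation z ((AddEquiv.ofBijective (Z.Γevaluation z).hom.toAddMonoidHom hev).symm
      ((i.residueFieldMap z).hom (a • v))) =
    Z.Γevaluation z ((show Γ(Z, ⊤) from Coh.toGlobal (Z ↘ Spec (CommRingCat.of k)) a) * ψ v)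
  refine ((AddEquiv.ofBijective (Z.Γevaluation z).hom.toAddMonoidHom hev).apply_symm_apply _).trans ?_
  refine Eq.trans ?_ (map_mul (Z.Γevaluation z).hom _ _).symm
  refine (congrArg (i.residueFieldMap z).hom (Algebra.smul_def a v)).trans
    ((map_mul (i.residueFieldMap z).hom _ _).trans ?_)
  exact congrArg₂ (· * ·) key
    ((AddEquiv.ofBijective (Z.Γevaluation z).hom.toAddMonoidHom hev).apply_symm_apply _).symm

end Groth.Agent.Lib.PointBlow96
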