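import Groth.Agent.Lib.PointBlow96.Euler
import Groth.Agent.Lib.PointBlow96.Local
import Groth.Agent.Lib.PointBlow96.PointChi

/-!
# Intersection numbers on the blow-up of a closed point of a regular proper surface
-/

set_option autoImplicit false
set_option linter.style.haveILetI false
set_option linter.unusedSectionVars false
set_option maxHeartbeats 1000000
universe u

open CategoryTheory CategoryTheory.Limits AlgebraicGeometry TopologicalSpace Opposite

namespace Groth.Agent.Lib.PointBlow96.General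

open Groth.Agent.Lib Groth.Agent.Lib.Modules Groth.Agent.Lib.Snapper
open Groth.Agent.Lib.Snapper.Vanish (sym sym_cons sym_of_iso)
open Groth.Agent.Lib.TensorMod.Basic (tensorIso rightUnit)
open Groth.Agent.Lib.TensorMod.Pullback (pb)

variable {k : Type u} [Field k] {Y X : Scheme.{u}}
  [Y.Over (Spec (CommRingCat.of k))] [IsProper (Y ↘ Spec (CommRingCat.of k))]
  [X.Over (Spec (CommRingCat.of k))] [IsProper (X ↘ Spec (CommRingCat.of k))]
  (hdimZ : ∀ Z ∈ irreducibleComponents (Y : Type u), topologicalKrullDim Z = 2)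
  (hreg : ∀ y : Y, IsRegularLocalRing (Y.presheaf.stalk y))
  {x : Y} (hx : IsClosed ({x} : Set Y)) {σ : X ⟶ Y}
  (hσk : σ ≫ (Y ↘ Spec (CommRingCat.of k)) = X ↘ Spec (CommRingCat.of k))
  (hσ : BlowUp.IsBlowUp σ (ptI hx))

local notation "EE" => BlowUp.exceptional σ (ptI hx)

include hdimZ hreg hσk hσ

theorem dim_le : topologicalKrullDim X ≤ 2 := by
  rw [← (Homeomorph.Set.univ (X : Type u)).isHomeomorph.topologicalKrullDim_eq]
  exact (VarDim.Basic.topologicalKrullDim_le_iff (X ↘ Spec (CommRingCat.of k))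
    isOpen_univ.isLocallyClosed _).2 fun w _ => by
      exact_mod_cast (pdim_blowUp (Y ↘ Spec (CommRingCat.of k)) hdimZ hreg hx hσ _ hσk w).1

theorem eulerCharLE_quot (b : ℕ) (hb : b = 1 ∨ b = 2) :
    FGA.eulerCharLE k X (_root_.ClSub.quotMod (EE ^ b)) 2 = (if b = 1 then 1 else 3) *
      (letI := Curv2.resAlgebra k Y x; (Module.finrank k (Y.residueField x) : ℤ)) := by
  haveI := Curves.GlobalSections.isNoetherian_of_proper k Y
  haveI := Curves.GlobalSections.isNoetherian_of_proper k X
  haveI := hreg x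
  have hd := stalk_dim_two (Y ↘ Spec (CommRingCat.of k)) hdimZ hreg hx
  haveI : (_root_.ClSub.quotMod (EE ^ b)).IsQuasicoherent :=
    (SurfInt.Effective.isCoh_quotMod (EE ^ b)).1
  rw [← Nakai.NumProper.euler_push σ hσk (isBasis_good hx hd) (_root_.ClSub.quotMod (EE ^ b)) ?_ 2]
  swap
  · intro W hW q
    refine subsingleton_HU hσ hW _
      ((_root_.ClSub.toSubscheme (EE ^ b)).app (σ ⁻¹ᵁ W) (1 : Γ(X, σ ⁻¹ᵁ W))) (fun V hV h z => ?_) q
    obtain ⟨a, ha⟩ := ClSub.Sections.toSubscheme_app_surjective (EE ^ b) ⟨V, hV⟩ z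
    refine ⟨a, ?_⟩
    have h1 := congr($((_root_.ClSub.toSubscheme (EE ^ b)).mapPresheaf.naturality (homOfLE h).op)
      (1 : Γ(X, σ ⁻¹ᵁ W)))
    have h2 := Scheme.Modules.Hom.app_smul (_root_.ClSub.toSubscheme (EE ^ b)) (U := V)
      (show Γ(X, V) from a) ((Coh.structureModule X).presheaf.map (homOfLE h).op (1 : Γ(X, σ ⁻¹ᵁ W)))
    refine (congrArg (fun t : Γ(_root_.ClSub.quotMod (EE ^ b), V) => (show Γ(X, V) from a) • t) h1.symm).trans ?_
    refine h2.symm.trans ((congrArg _ ?_).trans ha)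
    change (show Γ(X, V) from a) * X.presheaf.map (homOfLE h).op 1 = a
    rw [map_one, mul_one]
  have hO : ∀ W : Y.Opens, Function.Surjective (σ.app W) := fun W =>
    (app_bijective_local (Y ↘ Spec (CommRingCat.of k)) hdimZ hreg hx hσ W).2
  obtain ⟨hcoh, hsupp⟩ := push_quot_coh (k := k) hx hd hσ hσk b
  rw [eulerCharLE_of_support hx (dim_le_two (Y ↘ Spec (CommRingCat.of k)) hdimZ) _ hcoh (hsupp (by omega)),
    eulerCharLE_point_general hx, length_push_quot (k := k) hx hd hσ hσk hO b hb]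
  rcases hb with rfl | rfl
  · rw [pow_one, length_quot_maximalIdeal]; rfl
  · rw [length_quot_sq _ hd]; rfl

theorem intNum_pullback_pullback {L M : Y.Modules} (hL : PicF.IsInvertible L)
    (hM : PicF.IsInvertible M) :
    FGA.intNum k X 2 ![(pb σ).obj L, (pb σ).obj M] (Coh.structureModule X) =
      FGA.intNum k Y 2 ![L, M] (Coh.structureModule Y) := by
  haveI := Curves.GlobalSections.isNoetherian_of_proper k Y
  haveI := Curves.GlobalSections.isNoetherian_of_proper k X
  haveI := isIso_unit_local (Y ↘ Spec (CommRingCat.of k)) hdimZ hreg hx hσ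
  have hl : ∀ N ∈ [L, M], PicF.IsInvertible N := by
    intro N hN
    rcases List.mem_pair.1 hN with rfl | rfl
    · exact hL
    · exact hM
  have hX2 := dim_le hdimZ hreg hx hσk hσ
  have h := IntTheory.Push.sym_push σ hσk (dim_le_two (Y ↘ Spec (CommRingCat.of k)) hdimZ) hX2
    [L, M] hl (Coh.structureModule X) (Twist.isCoh_structureModule X)
    ((topologicalKrullDim_subspace_le _ _).trans (by exact_mod_cast hX2))
  simp only [List.map_cons, List.map_nil] at h
  rw [IntNum.intNum_pair, IntNum.intNum_pair, h]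
  exact sym_of_iso _ (asIso (_root_.ClSub.unitToPush σ)).symm

theorem isCoh_ideal (b : ℕ) : Coh.IsCoh (_root_.ClSub.idealMod (EE ^ b)) := by
  haveI := Curves.GlobalSections.isNoetherian_of_proper k X
  exact Ample.GG.isCoh_of_isInvertible (SurfInt.Effective.isInvertible_idealMod
    (Ideal.EffCartier.isEffCartier_pow hσ.1 b))

theorem sym_pullback_quot {L : Y.Modules} (hL : PicF.IsInvertible L) :
    sym k X 2 [(pb σ).obj L] (_root_.ClSub.quotMod (EE ^ 1)) = 0 := by
  haveI := Curves.GlobalSections.isNoetherian_of_proper k Y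
  haveI := Curves.GlobalSections.isNoetherian_of_proper k X
  haveI := hreg x
  have hY := dim_le_two (Y ↘ Spec (CommRingCat.of k)) hdimZ
  have hd := stalk_dim_two (Y ↘ Spec (CommRingCat.of k)) hdimZ hreg hx
  have hl : ∀ M ∈ [L], PicF.IsInvertible M := fun M hM => List.mem_singleton.1 hM ▸ hL
  have hsym := IntTheory.Push.sym_push σ hσk hY (dim_le hdimZ hreg hx hσk hσ) [L] hl
    (_root_.ClSub.quotMod (EE ^ 1)) (SurfInt.Effective.isCoh_quotMod _) (by
      rw [ClSub.Quot.support_quotMod, pow_one, List.length_singleton]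
      refine (VarDim.Basic.topologicalKrullDim_le_iff (X ↘ Spec (CommRingCat.of k))
        (EE).support.isClosed.isLocallyClosed _).2 fun w hw => ?_
      exact_mod_cast (pdim_blowUp (Y ↘ Spec (CommRingCat.of k)) hdimZ hreg hx hσ _ hσk w).2 hw)
  rw [List.map_cons, List.map_nil] at hsym
  rw [hsym, sym_cons]
  obtain ⟨hcoh, hsupp⟩ := push_quot_coh (k := k) hx hd hσ hσk 1
  rw [IntTheory.Additive.twist_eq (φ := sym k Y 2 []) (n := 0)
    (IntTheory.Additive.isAdd_sym (Finite.cohFinite k Y) hY (by simp))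
    (IntTheory.Additive.vanishBelow_sym (Finite.cohFinite k Y) hY (by simp) rfl) hL hcoh, sub_self]
  refine (Devissage.Dim.dim_mono (hsupp one_ne_zero)).trans ?_
  rw [← hx.closure_eq, dim_closure_point hx (Y ↘ Spec (CommRingCat.of k))]
  rfl

theorem intNum_pullback_exceptional {L : Y.Modules} (hL : PicF.IsInvertible L) :
    FGA.intNum k X 2 ![(pb σ).obj L, _root_.ClSub.idealMod EE] (Coh.structureModule X) = 0 := by
  haveI := Curves.GlobalSections.isNoetherian_of_proper k X
  have h := (IntTheory.Additive.isAdd_sym (Finite.cohFinite k X) (dim_le hdimZ hreg hx hσk hσ)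
    (l := [(pb σ).obj L])
    fun M hM => List.mem_singleton.1 hM ▸ PicLoc.isInvertible_pullback σ hL).add
    (ClSub.Quot.idealSeq_shortExact (EE ^ 1)) (isCoh_ideal hdimZ hreg hx hσk hσ 1)
    (Twist.isCoh_structureModule X) (SurfInt.Effective.isCoh_quotMod _)
  change sym k X 2 _ (Coh.structureModule X) = sym k X 2 _ (_root_.ClSub.idealMod (EE ^ 1)) +
    sym k X 2 _ (_root_.ClSub.quotMod (EE ^ 1)) at h
  rw [sym_pullback_quot hdimZ hreg hx hσk hσ hL, add_zero, pow_one] at h
  rw [IntNum.intNum_pair_comm, IntNum.intNum_pair, sym_cons,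
    sym_of_iso [(pb σ).obj L] (rightUnit (_root_.ClSub.idealMod EE)), h, sub_self]

theorem intNum_exceptional_self :
    FGA.intNum k X 2 ![_root_.ClSub.idealMod EE, _root_.ClSub.idealMod EE]
      (Coh.structureModule X) =
      -(letI := Curv2.resAlgebra k Y x; (Module.finrank k (Y.residueField x) : ℤ)) := by
  haveI := Curves.GlobalSections.isNoetherian_of_proper k X
  obtain ⟨e⟩ := SurfInt.Mul.nonempty_idealMod_mul hσ.1 EE
  have hadd : ∀ b : ℕ, FGA.eulerCharLE k X (Coh.structureModule X) 2 =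
      FGA.eulerCharLE k X (_root_.ClSub.idealMod (EE ^ b)) 2 +
        FGA.eulerCharLE k X (_root_.ClSub.quotMod (EE ^ b)) 2 := fun b => by
    have h := Chi.eulerCharLE_add (Finite.cohFinite k X) (dim_le hdimZ hreg hx hσk hσ)
      (ClSub.Quot.idealSeq_shortExact (EE ^ b)) (isCoh_ideal hdimZ hreg hx hσk hσ b)
      (Twist.isCoh_structureModule X) (SurfInt.Effective.isCoh_quotMod _)
    exact h
  have h1 := hadd 1
  have h2 := hadd 2
  rw [eulerCharLE_quot hdimZ hreg hx hσk hσ 1 (Or.inl rfl), pow_one, if_pos rfl] at h1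
  rw [eulerCharLE_quot hdimZ hreg hx hσk hσ 2 (Or.inr rfl), sq, ← Chi.eulerCharLE_of_iso e,
    if_neg (by decide)] at h2
  rw [IntNum.intNum_pair]
  simp only [Vanish.sym]
  rw [Chi.eulerCharLE_of_iso (rightUnit (_root_.ClSub.idealMod EE)),
    Chi.eulerCharLE_of_iso (tensorIso (Iso.refl (_root_.ClSub.idealMod EE))
      (rightUnit (_root_.ClSub.idealMod EE)))]
  linarith

end Groth.Agent.Lib.PointBlow96.General
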