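import Groth.Agent.Lib.PointBlow96.Cover
import Groth.Agent.Lib.PointBlow85.Params
import Groth.Agent.Lib.BirMap96.PointCartier
import Groth.Agent.Lib.CohDelta.TwoAff

/-!
# Affine opens over which the centre has two generators
-/

set_option autoImplicit false
set_option linter.style.haveILetI false
universe u

open CategoryTheory CategoryTheory.Limits AlgebraicGeometry TopologicalSpace Opposite

namespace Groth.Agent.Lib.PointBlow96

open Groth.Agent.Lib

variable {Y X : Scheme.{u}} {I : Y.IdealSheafData} {σ : X ⟶ Y}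

/-- An affine open on which the ideal has two generators. -/
def Good (I : Y.IdealSheafData) (W : Y.Opens) : Prop :=
  ∃ (hW : IsAffineOpen W) (g₁ g₂ : Γ(Y, W)), Ideal.span {g₁, g₂} = I.ideal ⟨W, hW⟩

theorem Good.isAffineOpen {W : Y.Opens} (h : Good I W) : IsAffineOpen W := h.1

section Point

variable {x : Y} (hx : IsClosed ({x} : Set Y))

/-- The ideal sheaf of the reduced closed point `x`. -/
noncomputable abbrev ptI : Y.IdealSheafData := Scheme.IdealSheafData.vanishingIdeal ⟨{x}, hx⟩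

theorem good_of_notMem {W : Y.Opens} (hW : IsAffineOpen W) (h : x ∉ W) : Good (ptI hx) W := by
  refine ⟨hW, 1, 1, ?_⟩
  rw [Set.pair_eq_singleton, Ideal.span_singleton_one, Scheme.IdealSheafData.vanishingIdeal_ideal]
  change ⊤ = PrimeSpectrum.vanishingIdeal (hW.fromSpec ⁻¹' ({x} : Set Y))
  have : hW.fromSpec ⁻¹' ({x} : Set Y) = ∅ := Set.eq_empty_of_forall_notMem fun q hq => by
    have hqW := Set.mem_range_self (f := hW.fromSpec) q
    rw [hW.range_fromSpec] at hqW
    exact h ((show hW.fromSpec q = x from hq) ▸ hqW)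
  exact ((congrArg PrimeSpectrum.vanishingIdeal this).trans PrimeSpectrum.vanishingIdeal_empty).symm

theorem ideal_eq_primeIdealOf {U : Y.Opens} (hU : IsAffineOpen U) (hxU : x ∈ U) :
    (ptI hx).ideal ⟨U, hU⟩ = (hU.primeIdealOf ⟨x, hxU⟩).asIdeal := by
  rw [Scheme.IdealSheafData.vanishingIdeal_ideal]
  change PrimeSpectrum.vanishingIdeal (hU.fromSpec ⁻¹' ({x} : Set Y)) = _
  have : hU.fromSpec ⁻¹' ({x} : Set Y) = {hU.primeIdealOf ⟨x, hxU⟩} := Set.ext fun q =>
    ⟨fun h => hU.fromSpec.isEmbedding.injective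
        ((show hU.fromSpec q = x from h).trans (hU.fromSpec_primeIdealOf ⟨x, hxU⟩).symm),
      fun h => (congrArg hU.fromSpec h).trans (hU.fromSpec_primeIdealOf _)⟩
  exact (congrArg PrimeSpectrum.vanishingIdeal this).trans (PrimeSpectrum.vanishingIdeal_singleton _)

variable [IsLocallyNoetherian Y]

/-- Near `x`: elements whose germs generate the maximal ideal generate the ideal of `x` on a basic
open. -/
theorem exists_basicOpen_span {U : Y.Opens} (hU : IsAffineOpen U) (hxU : x ∈ U)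
    (n₁ n₂ : Γ(Y, U))
    (h : IsLocalRing.maximalIdeal (Y.presheaf.stalk x) =
      Ideal.span {Y.presheaf.germ U x hxU n₁, Y.presheaf.germ U x hxU n₂}) :
    ∃ d : Γ(Y, U), x ∈ Y.basicOpen d ∧
      Ideal.span {Y.presheaf.map (homOfLE (Y.basicOpen_le d)).op n₁,
        Y.presheaf.map (homOfLE (Y.basicOpen_le d)).op n₂} =
      (ptI hx).ideal ⟨Y.basicOpen d, hU.basicOpen d⟩ := by
  classical
  set P := (hU.primeIdealOf ⟨x, hxU⟩).asIdeal with hP
  letI := TopCat.Presheaf.algebra_section_stalk Y.presheaf (⟨x, hxU⟩ : U)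
  haveI := hU.isLocalization_stalk ⟨x, hxU⟩
  have hn : ∀ n ∈ ({n₁, n₂} : Set Γ(Y, U)), n ∈ P := fun n hn => by
    have h1 : algebraMap Γ(Y, U) (Y.presheaf.stalk x) n ∈
        IsLocalRing.maximalIdeal (Y.presheaf.stalk x) := by
      rw [h]
      rcases hn with rfl | rfl
      · exact Ideal.subset_span (Or.inl rfl)
      · exact Ideal.subset_span (Or.inr rfl)
    exact (IsLocalization.AtPrime.to_map_mem_maximal_iff (Y.presheaf.stalk x) P n).1 h1
  haveI : IsNoetherianRing Γ(Y, U) := IsLocallyNoetherian.component_noetherian ⟨U, hU⟩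
  obtain ⟨T, hT⟩ := IsNoetherian.noetherian P
  have hden : ∀ b ∈ T, ∃ t ∈ P.primeCompl, t * b ∈ Ideal.span {n₁, n₂} := fun b hb => by
    have hbP : b ∈ P := hT ▸ Submodule.subset_span hb
    have h1 : algebraMap Γ(Y, U) (Y.presheaf.stalk x) b ∈
        (Ideal.span {n₁, n₂}).map (algebraMap Γ(Y, U) (Y.presheaf.stalk x)) := by
      rw [Ideal.map_span, Set.image_pair]
      exact h.le ((IsLocalization.AtPrime.to_map_mem_maximal_iff (Y.presheaf.stalk x) P b).2 hbP)
    exact (IsLocalization.algebraMap_mem_map_algebraMap_iff P.primeCompl (Y.presheaf.stalk x) _ b).1 h1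
  choose t htM htb using hden
  set d := ∏ b ∈ T.attach, t b.1 b.2 with hd
  have hdM : d ∈ P.primeCompl := prod_mem fun b _ => htM _ _
  refine ⟨d, ?_, ?_⟩
  · rw [Scheme.mem_basicOpen Y d x hxU]
    exact IsLocalization.map_units (Y.presheaf.stalk x) (⟨d, hdM⟩ : P.primeCompl)
  set ρ := (Y.presheaf.map (homOfLE (Y.basicOpen_le d)).op).hom with hρ
  rw [← (ptI hx).map_ideal (U := ⟨Y.basicOpen d, hU.basicOpen d⟩) (V := ⟨U, hU⟩) (Y.basicOpen_le d),
    ideal_eq_primeIdealOf hx hU hxU]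
  refine le_antisymm (Ideal.span_le.2 ?_) ?_
  · rintro _ (rfl | rfl)
    · exact Ideal.mem_map_of_mem ρ (hn _ (Or.inl rfl))
    · exact Ideal.mem_map_of_mem ρ (hn _ (Or.inr rfl))
  · rw [← hP, ← hT, Ideal.map_span, Ideal.span_le]
    rintro _ ⟨b, hb, rfl⟩
    obtain ⟨c, hc⟩ : t b hb ∣ d := Finset.dvd_prod_of_mem (fun b : {b // b ∈ T} => t b.1 b.2)
      (Finset.mem_attach _ ⟨b, hb⟩)
    have hdb : d * b ∈ Ideal.span {n₁, n₂} := by
      rw [hc, mul_comm (t b hb), mul_assoc]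
      exact Ideal.mul_mem_left _ _ (htb b hb)
    have h1 := Ideal.mem_map_of_mem ρ hdb
    rw [map_mul, Ideal.map_span, Set.image_pair] at h1
    have := hU.isLocalization_basicOpen d
    exact (Ideal.unit_mul_mem_iff_mem _ (IsLocalization.Away.algebraMap_isUnit d)).1 h1

variable [IsRegularLocalRing (Y.presheaf.stalk x)] (hd : ringKrullDim (Y.presheaf.stalk x) = 2)

include hd in
/-- The good opens form a basis. -/
theorem exists_good (y : Y) {O : Y.Opens} (hy : y ∈ O) : ∃ W, Good (ptI hx) W ∧ y ∈ W ∧ W ≤ O := by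
  classical
  by_cases hyx : y = x
  swap
  · obtain ⟨W, hW, hyW, hle⟩ := exists_isAffineOpen_mem_and_subset
      (U := O ⊓ ⟨({x} : Set Y)ᶜ, hx.isOpen_compl⟩) (show y ∈ (O ⊓ ⟨({x} : Set Y)ᶜ, hx.isOpen_compl⟩ : Y.Opens) from ⟨hy, hyx⟩)
    exact ⟨W, good_of_notMem hx hW fun h => (hle h).2 rfl, hyW, fun _ h => (hle h).1⟩
  subst hyx
  obtain ⟨U, hU, hxU, hUO⟩ := exists_isAffineOpen_mem_and_subset hy
  obtain ⟨a, ha, -⟩ := PointBlow85.exists_params _ hd
  letI := TopCat.Presheaf.algebra_section_stalk Y.presheaf (⟨y, hxU⟩ : U)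
  haveI := hU.isLocalization_stalk ⟨y, hxU⟩
  set P := (hU.primeIdealOf ⟨y, hxU⟩).asIdeal
  have key : ∀ i, ∃ n : Γ(Y, U), Ideal.span {algebraMap Γ(Y, U) (Y.presheaf.stalk y) n} =
      Ideal.span {a i} := fun i => by
    obtain ⟨⟨n, s⟩, hns⟩ := IsLocalization.surj P.primeCompl (a i)
    refine ⟨n, ?_⟩
    have hns' : a i * algebraMap Γ(Y, U) (Y.presheaf.stalk y) s =
        algebraMap Γ(Y, U) (Y.presheaf.stalk y) n := hns
    rw [← hns']
    exact Ideal.span_singleton_mul_right_unit (IsLocalization.map_units _ s) (a i)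
  choose n hn using key
  have hspan : IsLocalRing.maximalIdeal (Y.presheaf.stalk y) =
      Ideal.span {Y.presheaf.germ U y hxU (n 0), Y.presheaf.germ U y hxU (n 1)} := by
    rw [← ha, show Set.range a = {a 0, a 1} by
      ext z; simp [Fin.exists_fin_two, eq_comm]]
    rw [Ideal.span_insert, Ideal.span_insert, ← hn 0, ← hn 1]
    rfl
  obtain ⟨d, hxd, hspan'⟩ := exists_basicOpen_span hx hU hxU _ _ hspan
  exact ⟨Y.basicOpen d, ⟨hU.basicOpen d, _, _, hspan'⟩, hxd, fun _ h => hUO (Y.basicOpen_le d h)⟩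

include hd in
theorem isBasis_good : Opens.IsBasis {W : Y.Opens | Good (ptI hx) W} := by
  rw [Opens.isBasis_iff_nbhd]
  intro O y hy
  obtain ⟨W, hW, hyW, hle⟩ := exists_good hx hd y hy
  exact ⟨W, hW, hyW, hle⟩

end Point

/-- Higher cohomology over a good open of a quasi-coherent module with a generating section. -/
theorem subsingleton_HU (hσ : BlowUp.IsBlowUp σ I) {W : Y.Opens} (hW : Good I W) (M : X.Modules)
    [M.IsQuasicoherent] (m : Γ(M, σ ⁻¹ᵁ W))
    (hm : ∀ (V : X.Opens), IsAffineOpen V → ∀ h : V ≤ σ ⁻¹ᵁ W,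
      Function.Surjective fun a : Γ(X, V) => a • M.presheaf.map (homOfLE h).op m) (q : ℕ) :
    Subsingleton (CohTop.HU (Coh.toAb M) (q + 1) (σ ⁻¹ᵁ W)) := by
  obtain ⟨hWa, g₁, g₂, hg⟩ := hW
  obtain ⟨U, V, hU, hV, hUV, hcov, hdec, -⟩ := exists_cover hσ hWa g₁ g₂ hg
  rw [← hcov]
  haveI : ∀ n, Subsingleton (CohTop.HU (Coh.toAb M) (n + 1) U) := fun n =>
    ZarCoh.Affine.HU_subsingleton M hU n
  haveI : ∀ n, Subsingleton (CohTop.HU (Coh.toAb M) (n + 1) V) := fun n =>
    ZarCoh.Affine.HU_subsingleton M hV n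
  haveI : ∀ n, Subsingleton (CohTop.HU (Coh.toAb M) (n + 1) (U ⊓ V)) := fun n =>
    ZarCoh.Affine.HU_subsingleton M hUV n
  match q with
  | 0 =>
    refine CohDelta.TwoAff.subsingleton_HU_one_sup (Coh.toAb M) U V fun z => ?_
    have hle : U ⊔ V ≤ σ ⁻¹ᵁ W := hcov.le
    obtain ⟨a, ha⟩ := hm (U ⊓ V) hUV ((inf_le_left.trans le_sup_left).trans hle) z
    obtain ⟨p, r, hpr⟩ := hdec a
    refine ⟨p • M.presheaf.map (homOfLE (le_sup_left.trans hle)).op m,
      r • M.presheaf.map (homOfLE (le_sup_right.trans hle)).op m, ?_⟩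
    change M.presheaf.map _ (p • _) + M.presheaf.map _ (r • _) = z
    rw [Scheme.Modules.map_smul, Scheme.Modules.map_smul, ← ConcreteCategory.comp_apply,
      ← ConcreteCategory.comp_apply, ← Functor.map_comp, ← Functor.map_comp]
    refine Eq.trans ?_ ha
    subst hpr
    exact (add_smul (M := Γ(M, U ⊓ V)) _ _ _).symm
  | q + 1 =>
    refine subsingleton_of_forall_eq 0 fun c => ?_
    obtain ⟨w, rfl⟩ := Cech.MV.exists_δ_eq (Coh.toAb M) U V (q + 1) c (Subsingleton.elim _ _)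
      (Subsingleton.elim _ _)
    rw [Subsingleton.elim w 0, map_zero]

end Groth.Agent.Lib.PointBlow96
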