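import Groth.Agent.Lib.PointBlow96.Good
import Groth.Agent.Lib.Ideal.Comap
import Groth.Agent.Lib.SurfInt.Stalk

/-!
# Direct images of `O/E^b` along the blow-up of a point
-/

set_option autoImplicit false
set_option linter.style.haveILetI false
universe u

open CategoryTheory CategoryTheory.Limits AlgebraicGeometry TopologicalSpace Opposite

namespace Groth.Agent.Lib.PointBlow96

open Groth.Agent.Lib Groth.Agent.Lib.Modules

variable {Y X : Scheme.{u}} {I : Y.IdealSheafData} {σ : X ⟶ Y}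

theorem exc_pow_ideal {W : Y.Opens} (hW : IsAffineOpen W) (b : ℕ) (V : X.Opens) (hV : IsAffineOpen V)
    (e : V ≤ σ ⁻¹ᵁ W) : (BlowUp.exceptional σ I ^ b).ideal ⟨V, hV⟩ =
      (I.ideal ⟨W, hW⟩ ^ b).map (σ.appLE W V e).hom := by
  rw [Scheme.IdealSheafData.ideal_pow, Pi.pow_apply, Ideal.Comap.ideal_comap σ I ⟨W, hW⟩ ⟨V, hV⟩ e,
    Ideal.map_pow]

theorem toSubscheme_app_eq_zero_iff (J : X.IdealSheafData) {T : X.Opens} (hT : IsAffineOpen T)
    (s : Γ(X, T)) : (_root_.ClSub.toSubscheme J).app T s = 0 ↔ s ∈ J.ideal ⟨T, hT⟩ :=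
  (ClSub.Sections.mem_range_idealModι_app_iff J T s).symm.trans
    (ClSub.Sections.mem_range_idealModι_app_affine_iff J ⟨T, hT⟩ s)

/-- Over a good open every section of `O/E^b` comes from a function. -/
theorem surjective_toSubscheme (hσ : BlowUp.IsBlowUp σ I) {W : Y.Opens} (hW : Good I W) (b : ℕ) :
    Function.Surjective
      ((_root_.ClSub.toSubscheme (BlowUp.exceptional σ I ^ b)).app (σ ⁻¹ᵁ W)) := by
  obtain ⟨hWa, g₁, g₂, hg⟩ := hW
  obtain ⟨U, V, hU, hV, hUV, hcov, hdec, -⟩ := exists_cover hσ hWa g₁ g₂ hg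
  rw [← hcov]
  set J := BlowUp.exceptional σ I ^ b with hJ
  set π := _root_.ClSub.toSubscheme J
  intro t
  obtain ⟨p, hp⟩ : ∃ p : Γ(X, U), π.app U p = _ := ClSub.Sections.toSubscheme_app_surjective J ⟨U, hU⟩
    ((_root_.ClSub.quotMod J).presheaf.map (homOfLE (le_sup_left : U ≤ U ⊔ V)).op t)
  obtain ⟨q, hq⟩ : ∃ q : Γ(X, V), π.app V q = _ := ClSub.Sections.toSubscheme_app_surjective J ⟨V, hV⟩
    ((_root_.ClSub.quotMod J).presheaf.map (homOfLE (le_sup_right : V ≤ U ⊔ V)).op t)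
  have hUW : U ≤ σ ⁻¹ᵁ W := le_sup_left.trans hcov.le
  have hVW : V ≤ σ ⁻¹ᵁ W := le_sup_right.trans hcov.le
  have hIW : U ⊓ V ≤ σ ⁻¹ᵁ W := inf_le_left.trans hUW
  set rU := (X.presheaf.map (homOfLE (inf_le_left : U ⊓ V ≤ U)).op).hom
  set rV := (X.presheaf.map (homOfLE (inf_le_right : U ⊓ V ≤ V)).op).hom
  have hz : rU p - rV q ∈ J.ideal ⟨U ⊓ V, hUV⟩ := by
    refine (toSubscheme_app_eq_zero_iff J hUV _).1 ?_
    refine (map_sub (π.app (U ⊓ V)).hom _ _).trans (sub_eq_zero.2 ?_)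
    have h1 := congr($(π.mapPresheaf.naturality (homOfLE (inf_le_left : U ⊓ V ≤ U)).op) p)
    have h2 := congr($(π.mapPresheaf.naturality (homOfLE (inf_le_right : U ⊓ V ≤ V)).op) q)
    refine h1.trans (Eq.trans ?_ h2.symm)
    change (_root_.ClSub.quotMod J).presheaf.map _ (π.app U p) =
      (_root_.ClSub.quotMod J).presheaf.map _ (π.app V q)
    rw [hp, hq, ← ConcreteCategory.comp_apply, ← ConcreteCategory.comp_apply, ← Functor.map_comp,
      ← Functor.map_comp]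
    rfl
  obtain ⟨a, ha, c, hc, hac⟩ : ∃ a ∈ J.ideal ⟨U, hU⟩, ∃ c ∈ J.ideal ⟨V, hV⟩,
      rU a + rV c = rU p - rV q := by
    have key : ∀ z ∈ J.ideal ⟨U ⊓ V, hUV⟩, ∀ r : Γ(X, U ⊓ V), ∃ a ∈ J.ideal ⟨U, hU⟩,
        ∃ c ∈ J.ideal ⟨V, hV⟩, rU a + rV c = r * z := by
      intro z hz
      rw [hJ, exc_pow_ideal hWa b _ hUV hIW, Ideal.map] at hz
      induction hz using Submodule.span_induction with
      | mem z hz =>
        intro r
        obtain ⟨w, hw, rfl⟩ := hz
        obtain ⟨x, y, rfl⟩ := hdec r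
        refine ⟨x * σ.appLE W U hUW w, Ideal.mul_mem_left _ _ ?_,
          y * σ.appLE W V hVW w, Ideal.mul_mem_left _ _ ?_, ?_⟩
        · rw [exc_pow_ideal hWa b _ hU hUW]; exact Ideal.mem_map_of_mem _ hw
        · rw [exc_pow_ideal hWa b _ hV hVW]; exact Ideal.mem_map_of_mem _ hw
        · rw [map_mul, map_mul, add_mul]
          change _ * (σ.appLE W U hUW ≫ X.presheaf.map _) w +
            _ * (σ.appLE W V hVW ≫ X.presheaf.map _) w = _
          rw [Scheme.Hom.appLE_map, Scheme.Hom.appLE_map]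
      | zero =>
        exact fun r => ⟨0, Ideal.zero_mem _, 0, Ideal.zero_mem _, by simp⟩
      | add z w _ _ hz hw =>
        intro r
        obtain ⟨a, ha, c, hc, e⟩ := hz r
        obtain ⟨a', ha', c', hc', e'⟩ := hw r
        exact ⟨a + a', Ideal.add_mem _ ha ha', c + c', Ideal.add_mem _ hc hc',
          by rw [map_add, map_add, mul_add, ← e, ← e']; ring⟩
      | smul s z _ hz =>
        intro r
        rw [smul_eq_mul, ← mul_assoc]
        exact hz (r * s)
    simpa using key _ hz 1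
  have hcomp : rU (p - a) = rV (q + c) := by
    rw [map_sub, map_add]; linear_combination hac.symm
  let h : Γ(X, U ⊔ V) := (X.sheaf.objSupIsoProdEqLocus U V).inv ⟨(p - a, q + c), hcomp⟩
  have hhU : X.presheaf.map (homOfLE (le_sup_left : U ≤ U ⊔ V)).op h = p - a :=
    X.sheaf.objSupIsoProdEqLocus_inv_fst U V ⟨(p - a, q + c), hcomp⟩
  have hhV : X.presheaf.map (homOfLE (le_sup_right : V ≤ U ⊔ V)).op h = q + c :=
    X.sheaf.objSupIsoProdEqLocus_inv_snd U V ⟨(p - a, q + c), hcomp⟩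
  refine ⟨h, ?_⟩
  have hker : ∀ (T : X.Opens) (hT : IsAffineOpen T) (s : Γ(X, T)), s ∈ J.ideal ⟨T, hT⟩ →
      π.app T s = 0 := fun T hT s hs => (toSubscheme_app_eq_zero_iff J hT s).2 hs
  refine TopCat.Sheaf.eq_of_locally_eq₂
    (F := ⟨(_root_.ClSub.quotMod J).presheaf, (_root_.ClSub.quotMod J).isSheaf⟩)
    (homOfLE le_sup_left) (homOfLE le_sup_right) le_rfl _ _ ?_ ?_
  · refine (congr($(π.mapPresheaf.naturality (homOfLE (le_sup_left : U ≤ U ⊔ V)).op) h)).symm.trans ?_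
    change π.app U (X.presheaf.map _ h) = _
    rw [hhU]
    exact (map_sub (π.app U).hom p a).trans ((congrArg₂ (· - ·) hp (hker U hU a ha)).trans (sub_zero _))
  · refine (congr($(π.mapPresheaf.naturality (homOfLE (le_sup_right : V ≤ U ⊔ V)).op) h)).symm.trans ?_
    change π.app V (X.presheaf.map _ h) = _
    rw [hhV]
    exact (map_add (π.app V).hom q c).trans ((congrArg₂ (· + ·) hq (hker V hV c hc)).trans (add_zero _))

end Groth.Agent.Lib.PointBlow96
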