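import Groth.Agent.Lib.PointBlow96.Good
import Groth.Agent.Lib.BlowUpExists.Proper
import Groth.Agent.Lib.Ideal.BlowUp
import Groth.Agent.S2348
import Groth.Agent.H34.Stein.NormalBase
import Groth.Agent.Lib.Regular.Quotient
import Groth.Agent.Lib.Regular.UFD
import Groth.Agent.Lib.VarDim.Fibre

/-!
# The blow-up of a point of a regular surface is birational with `σ_* O = O`
-/

set_option autoImplicit false
set_option linter.style.haveILetI false
universe u

open CategoryTheory CategoryTheory.Limits AlgebraicGeometry TopologicalSpace Opposite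

namespace Groth.Agent.Lib.PointBlow96

open Groth.Agent.Lib

variable {Y X : Scheme.{u}} {σ : X ⟶ Y} {x : Y} (hx : IsClosed ({x} : Set Y))

theorem isProper_blowUp [IsLocallyNoetherian Y] (hσ : BlowUp.IsBlowUp σ (ptI hx)) : IsProper σ :=
  BlowUpExists.isProper_of_isBlowUp hσ fun U => by
    haveI : IsNoetherianRing Γ(Y, U.1) := IsLocallyNoetherian.component_noetherian U
    exact IsNoetherian.noetherian _

theorem ne_genericPoint [IsIntegral Y] (hd : ringKrullDim (Y.presheaf.stalk x) = 2) :
    genericPoint Y ≠ x := by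
  rintro rfl
  have h : ringKrullDim (Y.presheaf.stalk (genericPoint Y)) = 0 :=
    ringKrullDim_eq_zero_of_field Y.functionField
  rw [hd] at h
  exact absurd h (by decide)

theorem ptI_ne_bot [IsIntegral Y] (hd : ringKrullDim (Y.presheaf.stalk x) = 2) : ptI hx ≠ ⊥ := by
  intro h
  have h1 : ((ptI hx).support : Set Y) = Set.univ := by
    rw [h, Scheme.IdealSheafData.support_bot]; rfl
  rw [Scheme.IdealSheafData.coe_support_vanishingIdeal] at h1
  exact ne_genericPoint hd ((Set.eq_univ_iff_forall.1 h1) (genericPoint Y))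

theorem birational [IsIntegral Y] (hd : ringKrullDim (Y.presheaf.stalk x) = 2)
    (hσ : BlowUp.IsBlowUp σ (ptI hx)) : ∃ (_ : IsIntegral X),
      σ (genericPoint X) = genericPoint Y ∧ IsIso (σ.stalkMap (genericPoint X)) ∧
        Function.Bijective (σ.residueFieldMap (genericPoint X)).hom := by
  obtain ⟨hX, hgen, hres⟩ := S2348.result (ptI hx) (ptI_ne_bot hx hd) σ hσ
  refine ⟨hX, hgen, Ideal.BlowUp.isIso_stalkMap_off hσ _ fun h => ?_, hres⟩
  rw [Scheme.IdealSheafData.support_comap] at h
  change σ (genericPoint X) ∈ ((ptI hx).support : Set Y) at h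
  rw [Scheme.IdealSheafData.coe_support_vanishingIdeal, hgen] at h
  exact ne_genericPoint hd h

theorem isIso_app [IsLocallyNoetherian Y] [IsIntegral Y]
    (hreg : ∀ y : Y, IsRegularLocalRing (Y.presheaf.stalk y))
    (hd : ringKrullDim (Y.presheaf.stalk x) = 2) (hσ : BlowUp.IsBlowUp σ (ptI hx)) (U : Y.Opens) :
    IsIso (σ.app U) := by
  obtain ⟨hX, hgen, hbir, -⟩ := birational hx hd hσ
  haveI := isProper_blowUp hx hσ
  exact H34.Stein.isIso_app_of_birational σ (fun y => by
    haveI := hreg y
    exact ⟨Regular.Quotient.isDomain _, Regular.UFD.isIntegrallyClosed _⟩) hgen hbir U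

theorem dim_eq {k : Type u} [Field k] [IsIntegral Y] (qY : Y ⟶ Spec (CommRingCat.of k))
    (qX : X ⟶ Spec (CommRingCat.of k)) [LocallyOfFiniteType qY] [LocallyOfFiniteType qX]
    (h : σ ≫ qY = qX) (hd : ringKrullDim (Y.presheaf.stalk x) = 2)
    (hσ : BlowUp.IsBlowUp σ (ptI hx)) : topologicalKrullDim X = topologicalKrullDim Y := by
  obtain ⟨hX, hgen, -, hres⟩ := birational hx hd hσ
  rw [VarDim.Basic.topologicalKrullDim_irreducibleSpace qX,
    VarDim.Basic.topologicalKrullDim_irreducibleSpace qY,
    VarDim.Fibre.pdim_eq_add qX qY σ h (genericPoint X), hgen]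
  have h0 : VarDim.Basic.tdAt σ (genericPoint X) = 0 := by
    rw [VarDim.Basic.tdAt, Cyc.Residue.trdegAt_eq_zero_of_finite _
      (RingHom.Finite.of_surjective _ hres.2), map_zero]
  rw [h0, add_zero]

end Groth.Agent.Lib.PointBlow96
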